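import Mathlib
import Cfsg.Prelude.Def_KGroupFacts
import Cfsg.Agent.Solvable.SchurZassenhausConj
import Cfsg.Agent.S0004
import Cfsg.Agent.S0005

/-!
# Coprime groups of automorphisms are conjugate into a cyclic group of field automorphisms

* `exists_part` : the part of `d` prime to `n`;
* `conj_into` : `I` normal in the finite group `M`, `M ⧸ I` solvable, all primes dividing `#I` divide `n`, `C` a cyclic
  subgroup whose order is divisible by the `r`-part of `|M : I|` for every prime `r` not dividing `n`. Then every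
  subgroup `A` of order prime to `n` is conjugate into `C`.
* `conj_zpowers` : the case `M = MulAut K`, `I = Inn K`, `C = zpowers σ`.
-/

set_option autoImplicit false

open scoped Pointwise

namespace Cfsg.Agent.H967.CopConj

/-- the part of `d` prime to `n` -/
theorem exists_part (d n : ℕ) (hd : d ≠ 0) : ∃ m k : ℕ, d = m * k ∧ m.Coprime n ∧ ∀ p : ℕ, p.Prime → p ∣ k → p ∣ n := by
  refine ⟨d / Nat.gcd d (n ^ d), Nat.gcd d (n ^ d), (Nat.div_mul_cancel (Nat.gcd_dvd_left _ _)).symm, ?_, ?_⟩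
  · rw [Nat.coprime_iff_gcd_eq_one]
    by_contra hne
    obtain ⟨p, hp, hpd⟩ := Nat.exists_prime_and_dvd hne
    have h1 : p ∣ d / Nat.gcd d (n ^ d) := hpd.trans (Nat.gcd_dvd_left _ _)
    have h2 : p ∣ n := hpd.trans (Nat.gcd_dvd_right _ _)
    set v := d.factorization p with hv
    have h3 : p ^ v ∣ d := Nat.ordProj_dvd d p
    have hvd : v ≤ d := by
      have h4 : v < d := Nat.factorization_lt p hd
      exact h4.le
    have h4 : p ^ v ∣ n ^ d := (pow_dvd_pow_of_dvd h2 v).trans (pow_dvd_pow n hvd)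
    have h5 : p ^ v ∣ Nat.gcd d (n ^ d) := Nat.dvd_gcd h3 h4
    have h6 : p ^ (v + 1) ∣ d := by
      have h7 := mul_dvd_mul h1 h5
      rwa [Nat.div_mul_cancel (Nat.gcd_dvd_left _ _), mul_comm, ← pow_succ] at h7
    exact Nat.pow_succ_factorization_not_dvd hd hp h6
  · intro p hp hpk
    exact hp.dvd_of_dvd_pow (hpk.trans (Nat.gcd_dvd_right _ _))

/-- divisibility from prime powers -/
theorem dvd_of_primePow {m c n : ℕ} (hm : m.Coprime n)
    (h : ∀ p : ℕ, p.Prime → ¬ p ∣ n → ∀ k, p ^ k ∣ m → p ^ k ∣ c) : m ∣ c := by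
  rw [Nat.dvd_iff_prime_pow_dvd_dvd]
  intro p k hp hpk
  rcases Nat.eq_zero_or_pos k with rfl | hk
  · rw [pow_zero]; exact one_dvd _
  refine h p hp ?_ k hpk
  intro hpn
  have h1 : p ∣ m := (dvd_pow_self p hk.ne').trans hpk
  have h2 : p ∣ Nat.gcd m n := Nat.dvd_gcd h1 hpn
  rw [hm] at h2
  exact hp.one_lt.ne' (Nat.dvd_one.1 h2)

theorem coprime_of_primes {a b n : ℕ} (ha : a.Coprime n) (hb : ∀ p : ℕ, p.Prime → p ∣ b → p ∣ n) : a.Coprime b := by
  rw [Nat.coprime_iff_gcd_eq_one]
  by_contra hne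
  obtain ⟨p, hp, hpd⟩ := Nat.exists_prime_and_dvd hne
  have h1 : p ∣ Nat.gcd a n := Nat.dvd_gcd (hpd.trans (Nat.gcd_dvd_left _ _)) (hb p hp (hpd.trans (Nat.gcd_dvd_right _ _)))
  rw [ha] at h1
  exact hp.one_lt.ne' (Nat.dvd_one.1 h1)

/-- the image of a subgroup of coprime order has the same order -/
theorem card_map_mk {M : Type*} [Group M] [Finite M] (I : Subgroup M) [I.Normal] (A : Subgroup M)
    (h : (Nat.card A).Coprime (Nat.card I)) : Nat.card (A.map (QuotientGroup.mk' I)) = Nat.card A := by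
  have hinj : Function.Injective ((QuotientGroup.mk' I).comp A.subtype) := by
    rw [injective_iff_map_eq_one]
    intro x hx
    have h1 : (x : M) ∈ I := (QuotientGroup.eq_one_iff (x : M)).1 hx
    have h2 : orderOf (x : M) ∣ Nat.card I := by
      have := orderOf_dvd_natCard (⟨x, h1⟩ : I)
      rwa [Subgroup.orderOf_mk] at this
    have h3 : orderOf (x : M) ∣ Nat.card A := by
      rw [Subgroup.orderOf_coe]; exact orderOf_dvd_natCard x
    have h4 : orderOf (x : M) = 1 := Nat.eq_one_of_dvd_coprimes h h3 h2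
    exact Subtype.ext (orderOf_eq_one_iff.1 h4)
  have h1 : A.map (QuotientGroup.mk' I) = ((QuotientGroup.mk' I).comp A.subtype).range := by
    rw [MonoidHom.range_comp, Subgroup.range_subtype]
  rw [h1]
  exact (Nat.card_congr (MonoidHom.ofInjective hinj).toEquiv).symm

/-- A subgroup `A ≤ H ⊔ I`, `H` cyclic and `A`, `H` of order prime to the order of the normal subgroup `I`, is
conjugate into `H`. -/
theorem conj_le {M : Type*} [Group M] [Finite M] (I : Subgroup M) [I.Normal] (H : Subgroup M) (hs : Group.IsSolvable H)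
    (hH : (Nat.card H).Coprime (Nat.card I)) (A : Subgroup M) (hA : (Nat.card A).Coprime (Nat.card I))
    (hle : A ≤ H ⊔ I) : ∃ g : M, MulAut.conj g • A ≤ H := by
  set S := A ⊔ I with hS
  have hIS : I ≤ S := le_sup_right
  have hAS : A ≤ S := le_sup_left
  set H1 := H ⊓ S with hH1
  -- `H1 ⊔ I = S`
  have h1 : H1 ⊔ I = S := by
    apply le_antisymm (sup_le inf_le_right hIS)
    intro x hx
    have hx1 : x ∈ H ⊔ I := (sup_le hle le_sup_right : S ≤ H ⊔ I) hx
    rw [← SetLike.mem_coe, Subgroup.mul_normal] at hx1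
    obtain ⟨h, hh, i, hi, rfl⟩ := hx1
    refine mul_mem (Subgroup.mem_sup_left (Subgroup.mem_inf.2 ⟨hh, ?_⟩)) (Subgroup.mem_sup_right hi)
    have h2 := mul_mem hx (inv_mem (hIS hi))
    rwa [mul_inv_cancel_right] at h2
  have hcard : ∀ B : Subgroup M, (Nat.card B).Coprime (Nat.card I) → B ≤ S → B ⊔ I = S →
      Subgroup.IsComplement' (I.subgroupOf S) (B.subgroupOf S) := by
    intro B hB hBS hBI
    apply Subgroup.isComplement'_of_disjoint_and_mul_eq_univ
    · rw [disjoint_iff, eq_bot_iff]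
      intro x hx
      have hx1 : (x : M) ∈ I ⊓ B := ⟨hx.1, hx.2⟩
      have h2 : I ⊓ B = ⊥ := (Subgroup.disjoint_of_coprime_natCard hB.symm).eq_bot
      rw [h2, Subgroup.mem_bot] at hx1
      exact Subgroup.mem_bot.2 (Subtype.ext hx1)
    · rw [Set.eq_univ_iff_forall]
      intro x
      have hx1 : (x : M) ∈ I ⊔ B := by rw [sup_comm, hBI]; exact x.2
      rw [← SetLike.mem_coe, Subgroup.normal_mul] at hx1
      obtain ⟨i, hi, b, hb, hib⟩ := hx1
      exact ⟨⟨i, hIS hi⟩, hi, ⟨b, hBS hb⟩, hb, Subtype.ext hib⟩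
  have hc1 := hcard A hA hAS rfl
  have hH1c : (Nat.card H1).Coprime (Nat.card I) :=
    Nat.Coprime.coprime_dvd_left (Subgroup.card_dvd_of_le inf_le_left) hH
  have hc2 := hcard H1 hH1c inf_le_right h1
  have hI1 : Nat.card (I.subgroupOf S) = Nat.card I := Nat.card_congr (Subgroup.subgroupOfEquivOfLe hIS).toEquiv
  have hA1 : Nat.card (A.subgroupOf S) = Nat.card A := Nat.card_congr (Subgroup.subgroupOfEquivOfLe hAS).toEquiv
  have hcop : (Nat.card (I.subgroupOf S)).Coprime (I.subgroupOf S).index := by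
    rw [hc1.symm.index_eq_card, hI1, hA1]
    exact hA.symm
  have hsolv : Group.IsSolvable (S ⧸ I.subgroupOf S) := by
    have hs2 : Group.IsSolvable H1 :=
      Group.isSolvable_of_isSolvable_injective (Subgroup.inclusion_injective (inf_le_left : H1 ≤ H))
    have hs1 : Group.IsSolvable (H1.subgroupOf S) :=
      Group.isSolvable_of_isSolvable_injective
        (f := (Subgroup.subgroupOfEquivOfLe (inf_le_right : H1 ≤ S)).toMonoidHom)
        (Subgroup.subgroupOfEquivOfLe (inf_le_right : H1 ≤ S)).injective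
    exact Group.isSolvable_of_surjective (f := (hc2.symm.QuotientMulEquiv).symm.toMonoidHom)
      hc2.symm.QuotientMulEquiv.symm.surjective
  obtain ⟨s, hs1⟩ := Cfsg.Agent.Solvable.SchurZassenhausConj.conj_of_solvable (I.subgroupOf S) hcop (Or.inr hsolv) _ _
    hc1 hc2
  refine ⟨s, ?_⟩
  have h3 := Cfsg.Agent.Solvable.SchurZassenhausConj.conj_of_conj_subgroupOf S A H1 hAS inf_le_right s hs1
  rw [h3]
  exact inf_le_left

/-- **Coprime subgroups are conjugate into a cyclic subgroup with large order.** -/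
theorem conj_into {M : Type*} [Group M] [Finite M] (I : Subgroup M) [I.Normal] (hs : Group.IsSolvable (M ⧸ I)) {n : ℕ}
    (hI : ∀ p : ℕ, p.Prime → p ∣ Nat.card I → p ∣ n) (C : Subgroup M) [hC : IsCyclic C]
    (h : ∀ p : ℕ, p.Prime → ¬ p ∣ n → ∀ k, p ^ k ∣ I.index → p ^ k ∣ Nat.card C)
    (A : Subgroup M) (hA : (Nat.card A).Coprime n) : ∃ g : M, MulAut.conj g • A ≤ C := by
  have hi0 : I.index ≠ 0 := Subgroup.index_ne_zero_of_finite
  obtain ⟨m, k, hmk, hm, hk⟩ := exists_part I.index n hi0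
  have hmC : m ∣ Nat.card C := dvd_of_primePow hm fun p hp hpn j hj =>
    h p hp hpn j (hj.trans (hmk ▸ dvd_mul_right m k))
  -- the subgroup of order `m` of `C`
  obtain ⟨H, hHC, hHm, hHs⟩ : ∃ H : Subgroup M, H ≤ C ∧ Nat.card H = m ∧ Group.IsSolvable H := by
    obtain ⟨g, hg⟩ := hC.exists_ofOrder_eq_natCard
    obtain ⟨j, hj⟩ := hmC
    have hj0 : j ≠ 0 := by
      rintro rfl
      rw [mul_zero] at hj
      exact Nat.card_pos.ne' hj
    refine ⟨Subgroup.zpowers ((g : M) ^ j), ?_, ?_, ?_⟩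
    · rw [Subgroup.zpowers_le]
      exact pow_mem g.2 j
    · rw [Nat.card_zpowers, orderOf_pow' _ hj0, Subgroup.orderOf_coe, hg, hj, Nat.gcd_mul_left_left,
        Nat.mul_div_cancel _ (Nat.pos_of_ne_zero hj0)]
    · have : IsCyclic (Subgroup.zpowers ((g : M) ^ j)) := inferInstance
      have : IsMulCommutative (Subgroup.zpowers ((g : M) ^ j)) := inferInstance
      exact Group.isSolvable_of_comm fun a b => mul_comm' a b
  have hHI : (Nat.card H).Coprime (Nat.card I) := by rw [hHm]; exact coprime_of_primes hm hI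
  have hAI : (Nat.card A).Coprime (Nat.card I) := coprime_of_primes hA hI
  -- Hall in the quotient
  have hG : Nat.card (M ⧸ I) = m * k := by rw [← hmk]; rfl
  have hmk' : m.Coprime k := coprime_of_primes hm hk
  have hAk : (Nat.card (A.map (QuotientGroup.mk' I))).Coprime k := by
    rw [card_map_mk I A hAI]; exact coprime_of_primes hA hk
  obtain ⟨L, hL, hAL⟩ := Cfsg.Agent.S0005.result m k hG hmk' (A.map (QuotientGroup.mk' I)) hAk
  obtain ⟨g, hg⟩ := Cfsg.Agent.S0004.result m k hG hmk' L (H.map (QuotientGroup.mk' I)) hL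
    (by rw [card_map_mk I H hHI, hHm])
  obtain ⟨g, rfl⟩ := QuotientGroup.mk'_surjective I g
  have hle : MulAut.conj g • A ≤ H ⊔ I := by
    intro x hx
    rw [Subgroup.mem_smul_pointwise_iff_exists] at hx
    obtain ⟨a, ha, rfl⟩ := hx
    have h1 : QuotientGroup.mk' I (MulAut.conj g • a) ∈ H.map (QuotientGroup.mk' I) := by
      rw [← hg, Subgroup.mem_smul_pointwise_iff_exists]
      refine ⟨QuotientGroup.mk' I a, hAL (Subgroup.mem_map_of_mem _ ha), ?_⟩
      rw [MulAut.smul_def, MulAut.smul_def, MulAut.conj_apply, MulAut.conj_apply, map_mul, map_mul, map_inv]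
    have h2 : MulAut.conj g • a ∈ (H.map (QuotientGroup.mk' I)).comap (QuotientGroup.mk' I) := h1
    rwa [Subgroup.comap_map_eq, QuotientGroup.ker_mk'] at h2
  have hcard : Nat.card ↥(MulAut.conj g • A) = Nat.card A :=
    (Nat.card_congr (Subgroup.equivSMul (MulAut.conj g) A).toEquiv).symm
  obtain ⟨g', hg'⟩ := conj_le I H hHs hHI (MulAut.conj g • A) (by rw [hcard]; exact hAI) hle
  refine ⟨g' * g, ?_⟩
  rw [map_mul, mul_smul]
  exact hg'.trans hHC

/-- The case of automorphism groups. -/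
theorem conj_zpowers {K : Type*} [Group K] [Finite K] (hs : Group.IsSolvable (Cfsg.Out K)) (σ : MulAut K)
    (h : ∀ p : ℕ, p.Prime → ¬ p ∣ Nat.card K → ∀ k, p ^ k ∣ Nat.card (Cfsg.Out K) → p ^ k ∣ orderOf σ)
    (A : Subgroup (MulAut K)) (hA : (Nat.card A).Coprime (Nat.card K)) :
    ∃ g : MulAut K, MulAut.conj g • A ≤ Subgroup.zpowers σ := by
  have hfin : Finite (MulAut K) := inferInstance
  refine conj_into (Cfsg.Inn K) hs (n := Nat.card K) ?_ (Subgroup.zpowers σ) ?_ A hA
  · intro p hp hpd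
    have h1 : Nat.card (Cfsg.Inn K) ∣ Nat.card K := by
      have : Cfsg.Inn K = (MulAut.conj : K →* MulAut K).range := rfl
      rw [this]
      exact Subgroup.card_range_dvd _
    exact hpd.trans h1
  · intro p hp hpn k hk
    rw [Nat.card_zpowers]
    exact h p hp hpn k hk

end Cfsg.Agent.H967.CopConj
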