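import Mathlib
import Cfsg.Agent.H967.CopConj
import Cfsg.Agent.H967.CopMat

/-!
# Coprime automorphisms of matrix groups with field automorphisms

`IsRow G n` : the matrix group `G` over `F` is stable under the automorphisms of `F`, they act faithfully, and every
subgroup of `Aut G` of order prime to `#G` is conjugate into the group of field automorphisms (`F` has a cyclic
automorphism group).

* `Row.of_out` : the criterion from the order of `Out G`;
* `Row.exists_equiv` : a subgroup `A` of `Aut K`, `K ≃* G`, of order prime to `#K`, becomes the group generated by one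
  field automorphism `σ` for a suitable isomorphism `K ≃* G`;
* `Row.card_field` : then `#F = #(Fx σ) ^ #A`.
-/

set_option autoImplicit false

open scoped Pointwise

namespace Cfsg.Agent.H967.CopRow

open Cfsg.Agent.H967.CopMat

variable {ι : Type*} [Fintype ι] [DecidableEq ι] {F : Type*} [Field F]

/-- Coprime groups of automorphisms are conjugate into the field automorphisms. -/
structure Row (G : Subgroup (GL ι F)) : Prop where
  stab : Stab G
  inj : Function.Injective (fieldAut stab)
  conj : ∀ A : Subgroup (MulAut ↥G), (Nat.card A).Coprime (Nat.card ↥G) →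
    ∃ (g : MulAut ↥G) (σ : F ≃+* F), MulAut.conj g • A = Subgroup.zpowers (fieldAut stab σ)

/-- The criterion. -/
theorem Row.of_out [Finite F] {G : Subgroup (GL ι F)} (hG : Stab G) (hinj : Function.Injective (fieldAut hG))
    (hs : Group.IsSolvable (Cfsg.Out ↥G)) {n : ℕ} (τ : F ≃+* F) (hτ : orderOf τ = n)
    (h : ∀ p : ℕ, p.Prime → ¬ p ∣ Nat.card ↥G → ∀ k, p ^ k ∣ Nat.card (Cfsg.Out ↥G) → p ^ k ∣ n) : Row G := by
  refine ⟨hG, hinj, fun A hA => ?_⟩
  have hord : orderOf (fieldAut hG τ) = n := by rw [orderOf_injective _ hinj, hτ]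
  obtain ⟨g, hg⟩ := CopConj.conj_zpowers hs (fieldAut hG τ) (by rw [hord]; exact h) A hA
  -- a subgroup of a cyclic group is generated by a power
  have hc : IsCyclic ↥(MulAut.conj g • A) :=
    isCyclic_of_injective (Subgroup.inclusion hg) (Subgroup.inclusion_injective hg)
  obtain ⟨x, hx⟩ := hc.exists_generator
  obtain ⟨k, hk⟩ := hg x.2
  refine ⟨g, τ ^ k, ?_⟩
  have hk' : (x : MulAut ↥G) = fieldAut hG (τ ^ k) := by rw [map_zpow, ← hk]
  rw [← hk']
  apply le_antisymm
  · intro y hy
    obtain ⟨j, hj⟩ := hx ⟨y, hy⟩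
    exact ⟨j, by have := congrArg Subtype.val hj; simpa using this⟩
  · rw [Subgroup.zpowers_le]
    exact x.2

/-- Transport of automorphisms along `e`. -/
theorem Row.exists_equiv {G : Subgroup (GL ι F)} (R : Row G) {K : Type*} [Group K] (e : K ≃* ↥G)
    (A : Subgroup (MulAut K)) (hA : (Nat.card A).Coprime (Nat.card K)) :
    ∃ (e' : K ≃* ↥G) (σ : F ≃+* F), A.map (MulAut.congr e').toMonoidHom = Subgroup.zpowers (fieldAut R.stab σ) ∧
      orderOf σ = Nat.card A := by
  have hc : ∀ e : K ≃* ↥G, Nat.card (A.map (MulAut.congr e).toMonoidHom) = Nat.card A := fun e =>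
    (Nat.card_congr (A.equivMapOfInjective _ (MulAut.congr e).injective).toEquiv).symm
  have hK : Nat.card K = Nat.card ↥G := Nat.card_congr e.toEquiv
  obtain ⟨g, σ, hg⟩ := R.conj (A.map (MulAut.congr e).toMonoidHom) (by rw [hc, ← hK]; exact hA)
  have h1 : A.map (MulAut.congr (e.trans g)).toMonoidHom = Subgroup.zpowers (fieldAut R.stab σ) := by
    rw [← hg]
    ext β
    rw [Subgroup.mem_smul_pointwise_iff_exists]
    constructor
    · rintro ⟨α, hα, rfl⟩
      refine ⟨MulAut.congr e α, ⟨α, hα, rfl⟩, ?_⟩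
      ext1 x
      rfl
    · rintro ⟨_, ⟨α, hα, rfl⟩, rfl⟩
      refine ⟨α, hα, ?_⟩
      ext1 x
      rfl
  refine ⟨e.trans g, σ, h1, ?_⟩
  rw [← orderOf_injective _ R.inj, ← Nat.card_zpowers, ← h1, hc]

/-- The case of one automorphism. -/
theorem Row.exists_equiv_one {G : Subgroup (GL ι F)} (R : Row G) {K : Type*} [Group K] (e : K ≃* ↥G)
    (α : MulAut K) (hα : (orderOf α).Coprime (Nat.card K)) :
    ∃ (e' : K ≃* ↥G) (σ : F ≃+* F), (∀ x, e' (α x) = fieldAut R.stab σ (e' x)) ∧ orderOf σ = orderOf α := by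
  obtain ⟨e', σ, h1, h2⟩ := R.exists_equiv e (Subgroup.zpowers α) (by rw [Nat.card_zpowers]; exact hα)
  rw [Nat.card_zpowers] at h2
  have h3 : MulAut.congr e' α ∈ Subgroup.zpowers (fieldAut R.stab σ) := by
    rw [← h1]; exact ⟨α, Subgroup.mem_zpowers α, rfl⟩
  obtain ⟨k, hk⟩ := h3
  refine ⟨e', σ ^ k, fun x => ?_, ?_⟩
  · rw [map_zpow]
    have h4 := congrArg (fun β : MulAut ↥G => β (e' x)) hk
    have h5 : (MulAut.congr e' α) (e' x) = e' (α x) := by
      show e' (α (e'.symm (e' x))) = _
      rw [e'.symm_apply_apply]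
    exact (h4.trans h5).symm
  · rw [← orderOf_injective _ R.inj, map_zpow]
    have h4 : orderOf (MulAut.congr e' α) = orderOf α :=
      orderOf_injective (MulAut.congr e').toMonoidHom (MulAut.congr e').injective α
    exact (congrArg orderOf hk).trans h4

/-- A homomorphism to the fixed points: if the matrix group `G₀` over the field of fixed elements of `σ` is mapped into `G`. -/
theorem exists_hom {G : Subgroup (GL ι F)} (R : Row G) {K : Type*} [Group K] {α : MulAut K} (e : K ≃* ↥G)
    {σ : F ≃+* F} (h : ∀ x, e (α x) = fieldAut R.stab σ (e x)) (G₀ : Subgroup (GL ι ↥(Fx σ)))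
    (hG₀ : G₀.map (Matrix.GeneralLinearGroup.map (Fx σ).subtype) ≤ G) :
    ∃ f : ↥G₀ →* K, Function.Injective f ∧ ∀ x, α (f x) = f x := by
  let f₀ : ↥G₀ →* ↥G :=
    { toFun := fun g => ⟨Matrix.GeneralLinearGroup.map (Fx σ).subtype g.1, hG₀ ⟨g.1, g.2, rfl⟩⟩
      map_one' := Subtype.ext (map_one _)
      map_mul' := fun a b => Subtype.ext (map_mul _ _ _) }
  refine ⟨(e.symm : ↥G →* K).comp f₀, ?_, ?_⟩
  · refine e.symm.injective.comp ?_
    intro a b hab
    exact Subtype.ext (map_injective (Fx σ).subtype (congrArg Subtype.val hab))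
  · intro x
    apply e.injective
    rw [h]
    have h1 : e (((e.symm : ↥G →* K).comp f₀) x) = f₀ x := e.apply_symm_apply _
    rw [h1]
    exact Subtype.ext (map_fixed σ x.1)

end Cfsg.Agent.H967.CopRow
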