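import Mathlib
import Cfsg.Agent.H967.CopTw

/-!
# Coprime groups of automorphisms of the exceptional groups of Lie type are cyclic
-/

set_option autoImplicit false

open scoped Pointwise

namespace Cfsg.Agent.H967.CopCycAll

open Cfsg.Lie Cfsg.Agent.H254 Cfsg.Agent.H967.CopMat Cfsg.Agent.H967.CopRow

/-- the subgroups of order prime to the order of the group are cyclic -/
theorem copCyc_of_row {ι : Type*} [Fintype ι] [DecidableEq ι] {F : Type*} [Field F] {G : Subgroup (GL ι F)}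
    (R : Row G) : CopCyc ↥G := by
  intro A hA
  obtain ⟨g, σ, h⟩ := R.conj A hA
  have h1 : IsCyclic ↥(MulAut.conj g • A) := by rw [h]; infer_instance
  exact isCyclic_of_surjective (Subgroup.equivSMul (MulAut.conj g) A).symm
    (Subgroup.equivSMul (MulAut.conj g) A).symm.surjective

theorem simple_of_equiv {K : Type*} [Group K] [IsSimpleGroup K] {G : Type*} [Group G] (e : K ≃* G) :
    IsSimpleGroup G := by
  have h1 : Nontrivial G := e.symm.toEquiv.nontrivial
  exact IsSimpleGroup.isSimpleGroup_of_surjective e.toMonoidHom e.surjective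

variable {K : Type*} [Group K]

theorem copCyc_g2 [IsSimpleGroup K] (h : IsoChevG2 K) : CopCyc K := by
  obtain ⟨F, _, _, h3, ⟨e⟩⟩ := h
  have := simple_of_equiv e
  exact CopCyc.of_equiv e.symm (copCyc_of_row (CopChev.row_g2 h3))

theorem copCyc_f4 [IsSimpleGroup K] (h : IsoF4 K) : CopCyc K := by
  obtain ⟨F, _, _, ⟨e⟩⟩ := h
  have := simple_of_equiv e
  exact CopCyc.of_equiv e.symm (copCyc_of_row CopChev.row_f4)

theorem copCyc_e6 [IsSimpleGroup K] (h : IsoChevE6 K) : CopCyc K := by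
  obtain ⟨F, _, _, ⟨e⟩⟩ := h
  have := simple_of_equiv e
  exact CopCyc.of_equiv e.symm (copCyc_of_row CopChev.row_e6)

theorem copCyc_e7 [IsSimpleGroup K] (h : IsoE7 K) : CopCyc K := by
  obtain ⟨F, _, _, ⟨e⟩⟩ := h
  have := simple_of_equiv e
  exact CopCyc.of_equiv e.symm (copCyc_of_row CopChev.row_e7)

theorem copCyc_e8 [IsSimpleGroup K] (h : IsoE8 K) : CopCyc K := by
  obtain ⟨F, _, _, ⟨e⟩⟩ := h
  have := simple_of_equiv e
  exact CopCyc.of_equiv e.symm (copCyc_of_row CopChev.row_e8)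

theorem copCyc_sz (h : IsoSuzuki K) : CopCyc K := by
  obtain ⟨F, _, _, m, hm, hF, ⟨e⟩⟩ := h
  exact CopCyc.of_equiv e.symm (copCyc_of_row (CopSz.row_sz hm hF))

theorem copCyc_ree (h : IsoRee K) : CopCyc K := by
  obtain ⟨F, _, _, m, hm, hF, ⟨e⟩⟩ := h
  exact CopCyc.of_equiv e.symm (copCyc_of_row (CopSz.row_ree hm hF))

theorem copCyc_tf4 (h : Iso2F4 K) : CopCyc K := by
  obtain ⟨F, _, _, m, hm, hF, ⟨e⟩⟩ := h
  exact CopCyc.of_equiv e.symm (copCyc_of_row (CopSz.row_tf4 hm hF))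

theorem copCyc_d4 (h : Iso3D4 K) : CopCyc K := by
  obtain ⟨F, _, _, q, hq, hF, ⟨e⟩⟩ := h
  exact CopCyc.of_equiv e.symm (copCyc_of_row (CopTw.row_d4 hq hF))

theorem copCyc_2e6 (h : Iso2E6 K) : CopCyc K := Cfsg.Agent.H565.CopTw.copCyc_twE6 h

end Cfsg.Agent.H967.CopCycAll
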