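import Mathlib
import Cfsg.Agent.H967.CopRow

/-!
# Sections of the group of fixed points

* `Sec K α Y` : `Y` is a quotient of a subgroup of `K` fixed elementwise by `α`;
* `Sec.card_dvd`, `Sec.isSolvable`, `Sec.congr`, `Sec.of_hom`;
* `sec_of_center` : a subgroup `S₀` of `S` fixed by `φ` gives the section `S₀ / Z(S₀)` of the fixed points of `φ` on
  `S / Z(S)`;
* `Row.fix` : coprime automorphisms of matrix groups with field automorphisms.
-/

set_option autoImplicit false

namespace Cfsg.Agent.H967.CopSec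

open Cfsg.Agent.H967.CopMat Cfsg.Agent.H967.CopRow

/-- `Y` is a section of the group of the fixed points of `α`. -/
def Sec (K : Type*) [Group K] (α : MulAut K) (Y : Type*) [Group Y] : Prop :=
  ∃ L : Subgroup K, (∀ x ∈ L, α x = x) ∧ ∃ φ : ↥L →* Y, Function.Surjective φ

/-- The fixed points of `α`. -/
def Fix {K : Type*} [Group K] (α : MulAut K) : Subgroup K := α.toMonoidHom.eqLocus (MonoidHom.id K)

theorem mem_Fix {K : Type*} [Group K] {α : MulAut K} {x : K} : x ∈ Fix α ↔ α x = x := Iff.rfl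

section

variable {K : Type*} [Group K] {α : MulAut K} {Y : Type*} [Group Y]

theorem Sec.of_hom (f : Y →* K) (hf : Function.Injective f) (h : ∀ x, α (f x) = f x) : Sec K α Y := by
  refine ⟨f.range, ?_, (MonoidHom.ofInjective hf).symm.toMonoidHom, (MonoidHom.ofInjective hf).symm.surjective⟩
  rintro _ ⟨x, rfl⟩
  exact h x

theorem Sec.card_dvd (h : Sec K α Y) : Nat.card Y ∣ Nat.card ↥(Fix α) := by
  obtain ⟨L, hL, φ, hφ⟩ := h
  have h1 : Nat.card Y ∣ Nat.card ↥L := Subgroup.card_dvd_of_surjective φ hφ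
  exact h1.trans (Subgroup.card_dvd_of_le hL)

/-- a section of a solvable group -/
theorem Sec.isSolvable (h : Sec K α Y) (hs : Group.IsSolvable ↥(Fix α)) : Group.IsSolvable Y := by
  obtain ⟨L, hL, φ, hφ⟩ := h
  have h1 : Group.IsSolvable ↥L :=
    Group.isSolvable_of_isSolvable_injective (Subgroup.inclusion_injective (show L ≤ Fix α from hL))
  exact Group.isSolvable_of_surjective hφ

/-- a section of a nilpotent group -/
theorem Sec.isNilpotent (h : Sec K α Y) (hs : Group.IsNilpotent ↥(Fix α)) : Group.IsNilpotent Y := by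
  obtain ⟨L, hL, φ, hφ⟩ := h
  have h2 : Function.Injective (Subgroup.inclusion (show L ≤ Fix α from hL)) := Subgroup.inclusion_injective _
  have h1 : Group.IsNilpotent ↥L := Group.nilpotent_of_mulEquiv (MonoidHom.ofInjective h2).symm
  exact Group.nilpotent_of_surjective φ hφ

theorem Sec.congr {K' : Type*} [Group K'] {α' : MulAut K'} (e : K ≃* K') (he : ∀ x, e (α x) = α' (e x))
    (h : Sec K' α' Y) : Sec K α Y := by
  obtain ⟨L, hL, φ, hφ⟩ := h
  refine ⟨L.comap (e : K →* K'), ?_, φ.comp ((e : K →* K').subgroupComap L), ?_⟩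
  · intro x hx
    apply e.injective
    rw [he]
    exact hL _ hx
  · intro y
    obtain ⟨x, rfl⟩ := hφ y
    refine ⟨⟨e.symm x, ?_⟩, ?_⟩
    · show e (e.symm x) ∈ L
      rw [e.apply_symm_apply]; exact x.2
    · show φ _ = φ x
      congr 1
      apply Subtype.ext
      exact e.apply_symm_apply _

theorem Sec.of_surjective {Y' : Type*} [Group Y'] (g : Y →* Y') (hg : Function.Surjective g) (h : Sec K α Y) :
    Sec K α Y' := by
  obtain ⟨L, hL, φ, hφ⟩ := h
  exact ⟨L, hL, g.comp φ, hg.comp hφ⟩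

/-- a section of a power is not a section of `α`, but the converse holds for fixed points of generators -/
theorem Sec.of_zpowers {β : MulAut K} (hβ : β ∈ Subgroup.zpowers α) (h : Sec K α Y) : Sec K β Y := by
  obtain ⟨L, hL, φ, hφ⟩ := h
  obtain ⟨k, rfl⟩ := hβ
  refine ⟨L, fun x hx => ?_, φ, hφ⟩
  have h1 : α ∈ (MulAction.stabilizer (MulAut K) x) := hL x hx
  exact zpow_mem h1 k

end

/-- Central quotients. -/
theorem sec_of_center {S₀ : Type*} [Group S₀] {S : Type*} [Group S] (j : S₀ →* S) (hj : Function.Injective j)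
    (Φ : MulAut (S ⧸ Subgroup.center S)) (h : ∀ x : S₀, Φ (j x : S ⧸ Subgroup.center S) = (j x : S ⧸ Subgroup.center S)) :
    Sec (S ⧸ Subgroup.center S) Φ (S₀ ⧸ Subgroup.center S₀) := by
  let f : S₀ →* S ⧸ Subgroup.center S := (QuotientGroup.mk' _).comp j
  have hk : f.ker ≤ Subgroup.center S₀ := by
    intro x hx
    have h1 : j x ∈ Subgroup.center S := (QuotientGroup.eq_one_iff _).1 hx
    rw [Subgroup.mem_center_iff] at h1 ⊢
    intro y
    apply hj
    rw [map_mul, map_mul]
    exact h1 (j y)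
  refine ⟨f.range, ?_, ?_⟩
  · rintro _ ⟨x, rfl⟩
    exact h x
  · let g : S₀ ⧸ f.ker →* S₀ ⧸ Subgroup.center S₀ :=
      QuotientGroup.map _ _ (MonoidHom.id S₀) (by rw [Subgroup.comap_id]; exact hk)
    refine ⟨g.comp (QuotientGroup.quotientKerEquivRange f).symm.toMonoidHom, ?_⟩
    intro y
    obtain ⟨y, rfl⟩ := QuotientGroup.mk_surjective y
    refine ⟨QuotientGroup.quotientKerEquivRange f (y : S₀ ⧸ f.ker), ?_⟩
    show g ((QuotientGroup.quotientKerEquivRange f).symm (QuotientGroup.quotientKerEquivRange f (y : S₀ ⧸ f.ker))) = _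
    rw [MulEquiv.symm_apply_apply]
    rfl

/-- The fixed points of a coprime automorphism of a matrix group. -/
theorem Row.fix {ι : Type*} [Fintype ι] [DecidableEq ι] {F : Type*} [Field F] [Finite F] {G : Subgroup (GL ι F)}
    (R : Row G) {K : Type*} [Group K] (e : K ≃* ↥G) (α : MulAut K) (hα : (orderOf α).Coprime (Nat.card K))
    (G₀ : ∀ E : Subfield F, Subgroup (GL ι ↥E))
    (hG₀ : ∀ E : Subfield F, Nat.card F = Nat.card ↥E ^ orderOf α →
      (G₀ E).map (Matrix.GeneralLinearGroup.map E.subtype) ≤ G) :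
    ∃ E : Subfield F, Nat.card F = Nat.card ↥E ^ orderOf α ∧
      ∃ f : ↥(G₀ E) →* K, Function.Injective f ∧ ∀ x, α (f x) = f x := by
  obtain ⟨e', σ, h1, h2⟩ := R.exists_equiv_one e α hα
  have h3 : Nat.card F = Nat.card ↥(Fx σ) ^ orderOf α := by rw [← h2]; exact card_Fx σ
  exact ⟨Fx σ, h3, exists_hom R e' h1 (G₀ (Fx σ)) (hG₀ _ h3)⟩

end Cfsg.Agent.H967.CopSec
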