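import Mathlib
import Cfsg.Agent.H967.CopTw
import Cfsg.Agent.H967.CopSec
import Cfsg.Agent.H967.CopCycAll

/-!
# The fixed points of coprime automorphisms of the exceptional groups of Lie type

`fix_xxx` : `K ≃* X(F)`, `α` an automorphism of `K` of order `n` prime to `#K`: there is a subfield `E` of `F` with
`#F = #E ^ n` such that `X(E)` embeds into the group of the fixed points of `α`.
-/

set_option autoImplicit false

namespace Cfsg.Agent.H967.CopFix

open Cfsg.Lie Cfsg.Agent.H967.CopMat Cfsg.Agent.H967.CopRow Cfsg.Agent.H967.CopSec Cfsg.Agent.H967.CopChev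
  Cfsg.Agent.H967.CopSz Cfsg.Agent.H967.CopTw Cfsg.Agent.H967.CopCycAll

/-! ### Chevalley groups -/

section Chev

variable {F : Type*} [Field F] [Fintype F] {K : Type*} [Group K] [IsSimpleGroup K]

theorem fix_group {D : ChevalleyDatum} (R : Row (D.group F)) {K : Type*} [Group K] (e : K ≃* ↥(D.group F))
    (α : MulAut K) (hα : (orderOf α).Coprime (Nat.card K)) :
    ∃ E : Subfield F, Nat.card F = Nat.card ↥E ^ orderOf α ∧
      ∃ f : ↥(D.group ↥E) →* K, Function.Injective f ∧ ∀ x, α (f x) = f x :=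
  Row.fix R e α hα (fun E => D.group ↥E) fun E _ => map_group_le D E.subtype

theorem fix_g2 (h3 : 3 ≤ Fintype.card F) (e : K ≃* ↥(chevG2.group F)) (α : MulAut K)
    (hα : (orderOf α).Coprime (Nat.card K)) :
    ∃ E : Subfield F, Nat.card F = Nat.card ↥E ^ orderOf α ∧
      ∃ f : ↥(chevG2.group ↥E) →* K, Function.Injective f ∧ ∀ x, α (f x) = f x := by
  have := simple_of_equiv e
  exact fix_group (row_g2 h3) e α hα

theorem fix_f4 (e : K ≃* ↥(chevF4.group F)) (α : MulAut K) (hα : (orderOf α).Coprime (Nat.card K)) :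
    ∃ E : Subfield F, Nat.card F = Nat.card ↥E ^ orderOf α ∧
      ∃ f : ↥(chevF4.group ↥E) →* K, Function.Injective f ∧ ∀ x, α (f x) = f x := by
  have := simple_of_equiv e
  exact fix_group row_f4 e α hα

theorem fix_e6 (e : K ≃* ↥(chevE6.group F)) (α : MulAut K) (hα : (orderOf α).Coprime (Nat.card K)) :
    ∃ E : Subfield F, Nat.card F = Nat.card ↥E ^ orderOf α ∧
      ∃ f : ↥(chevE6.group ↥E) →* K, Function.Injective f ∧ ∀ x, α (f x) = f x := by
  have := simple_of_equiv e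
  exact fix_group row_e6 e α hα

theorem fix_e7 (e : K ≃* ↥(chevE7.group F)) (α : MulAut K) (hα : (orderOf α).Coprime (Nat.card K)) :
    ∃ E : Subfield F, Nat.card F = Nat.card ↥E ^ orderOf α ∧
      ∃ f : ↥(chevE7.group ↥E) →* K, Function.Injective f ∧ ∀ x, α (f x) = f x := by
  have := simple_of_equiv e
  exact fix_group row_e7 e α hα

theorem fix_e8 (e : K ≃* ↥(chevE8.group F)) (α : MulAut K) (hα : (orderOf α).Coprime (Nat.card K)) :
    ∃ E : Subfield F, Nat.card F = Nat.card ↥E ^ orderOf α ∧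
      ∃ f : ↥(chevE8.group ↥E) →* K, Function.Injective f ∧ ∀ x, α (f x) = f x := by
  have := simple_of_equiv e
  exact fix_group row_e8 e α hα

end Chev

/-! ### Arithmetic -/

theorem exists_log {p N n M : ℕ} (hp : p.Prime) (hn : n ≠ 0) (h : p ^ M = N ^ n) : ∃ k, N = p ^ k ∧ k * n = M := by
  have h1 : N ∣ p ^ M := by rw [h]; exact dvd_pow_self N hn
  obtain ⟨k, -, rfl⟩ := (Nat.dvd_prime_pow hp).1 h1
  exact ⟨k, rfl, by rw [← pow_mul] at h; exact (Nat.pow_right_injective hp.two_le h).symm⟩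

theorem pow_eq {E : Type*} [Field E] [Finite E] {p k m m₀ j : ℕ} (hE : Nat.card E = p ^ k) (h : m = m₀ + j * k) (x : E) :
    x ^ p ^ m = x ^ p ^ m₀ := by
  have : Fintype E := Fintype.ofFinite E
  rw [Nat.card_eq_fintype_card] at hE
  rw [h, pow_add, pow_mul, mul_comm, pow_mul p k j, ← hE, FiniteField.pow_card_pow]

/-- The subfields of the fields of the Suzuki and Ree groups. -/
theorem exists_odd_exp {p m n N : ℕ} (hp : p.Prime) (h : p ^ (2 * m + 1) = N ^ n) :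
    ∃ m₀ j : ℕ, N = p ^ (2 * m₀ + 1) ∧ m = m₀ + j * (2 * m₀ + 1) := by
  have hn : n ≠ 0 := by
    rintro rfl
    rw [pow_zero] at h
    have := Nat.one_lt_pow (n := 2 * m + 1) (by omega) hp.one_lt
    omega
  obtain ⟨k, rfl, hk⟩ := exists_log hp hn h
  have hko : Odd k := by
    have : Odd (k * n) := by rw [hk]; exact ⟨m, rfl⟩
    exact (Nat.odd_mul.1 this).1
  have hno : Odd n := by
    have : Odd (k * n) := by rw [hk]; exact ⟨m, rfl⟩
    exact (Nat.odd_mul.1 this).2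
  obtain ⟨m₀, rfl⟩ := hko
  obtain ⟨j, rfl⟩ := hno
  refine ⟨m₀, j, rfl, ?_⟩
  have h1 : 2 * m + 1 = 2 * (m₀ + j * (2 * m₀ + 1)) + 1 := by rw [← hk]; ring
  omega

/-! ### Ree groups -/

section Ree

theorem words_g2 {E : Type*} [Field E] {F : Type*} [Field F] (f : E →+* F) (e : ℕ) :
    (twistedG2 E e).map (Matrix.GeneralLinearGroup.map f) ≤ twistedG2 F e := by
  refine map_genSubgroup_le chevG2 f ?_
  rintro w ⟨t, u, v, h⟩
  refine ⟨f t, f u, f v, ?_⟩
  rcases h with rfl | rfl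
  · left; simp [reeWordU]
  · right; simp [reeWordV, reeWordU, ChevalleyDatum.negWord]

theorem twistedG2_congr {E : Type*} [Field E] {e e₀ : ℕ} (h : ∀ x : E, x ^ e = x ^ e₀) :
    twistedG2 E e = twistedG2 E e₀ := by
  have h1 : ∀ t u v : E, reeWordU e t u v = reeWordU e₀ t u v := by
    intro t u v
    simp only [reeWordU, pow_succ, pow_mul', h]
  unfold twistedG2 g2Words reeWordV
  simp only [h1]

theorem words_f4 {E : Type*} [Field E] {F : Type*} [Field F] (f : E →+* F) (e : ℕ) :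
    (twistedF4 E e).map (Matrix.GeneralLinearGroup.map f) ≤ twistedF4 F e := by
  refine map_genSubgroup_le chevF4 f ?_
  rintro w (⟨t, h⟩ | ⟨t, u, h⟩)
  · left
    refine ⟨f t, ?_⟩
    rcases h with rfl | rfl
    · left; simp [f4PairWord]
    · right; simp [f4PairWord]
  · right
    refine ⟨f t, f u, ?_⟩
    rcases h with rfl | rfl
    · left; simp [b2ClassWord]
    · right; simp [b2ClassWord]

theorem twistedF4_congr {E : Type*} [Field E] {e e₀ : ℕ} (h : ∀ x : E, x ^ e = x ^ e₀) :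
    twistedF4 E e = twistedF4 E e₀ := by
  have h1 : ∀ (r s : ℕ) (t : E), f4PairWord e r s t = f4PairWord e₀ r s t := by
    intro r s t
    simp only [f4PairWord, h]
  have h2 : ∀ (r s u v : ℕ) (t w : E), b2ClassWord e r s u v t w = b2ClassWord e₀ r s u v t w := by
    intro r s u v t w
    simp only [b2ClassWord, pow_succ, pow_mul', h]
  unfold twistedF4 f4Words
  simp only [h1, h2]

variable {F : Type*} [Field F] [Fintype F] {K : Type*} [Group K] {m : ℕ}

theorem fix_ree (hm : 1 ≤ m) (hF : Fintype.card F = 3 ^ (2 * m + 1)) (e : K ≃* ↥(twistedG2 F (3 ^ m))) (α : MulAut K)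
    (hα : (orderOf α).Coprime (Nat.card K)) :
    ∃ (E : Subfield F) (m₀ : ℕ), Nat.card F = Nat.card ↥E ^ orderOf α ∧ Nat.card ↥E = 3 ^ (2 * m₀ + 1) ∧
      ∃ f : ↥(twistedG2 ↥E (3 ^ m₀)) →* K, Function.Injective f ∧ ∀ x, α (f x) = f x := by
  obtain ⟨E, hE, f, hf⟩ := Row.fix (row_ree hm hF) e α hα (fun E => twistedG2 ↥E (3 ^ m))
    fun E _ => words_g2 E.subtype _
  have hE' : 3 ^ (2 * m + 1) = Nat.card ↥E ^ orderOf α := by rw [← hE, Nat.card_eq_fintype_card, hF]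
  obtain ⟨m₀, j, h1, h2⟩ := exists_odd_exp Nat.prime_three hE'
  refine ⟨E, m₀, hE, h1, ?_⟩
  rw [← twistedG2_congr (E := ↥E) (e := 3 ^ m) (pow_eq h1 h2)]
  exact ⟨f, hf⟩

theorem fix_tf4 (hm : 1 ≤ m) (hF : Fintype.card F = 2 ^ (2 * m + 1)) (e : K ≃* ↥(twistedF4 F (2 ^ m))) (α : MulAut K)
    (hα : (orderOf α).Coprime (Nat.card K)) :
    ∃ (E : Subfield F) (m₀ : ℕ), Nat.card F = Nat.card ↥E ^ orderOf α ∧ Nat.card ↥E = 2 ^ (2 * m₀ + 1) ∧
      ∃ f : ↥(twistedF4 ↥E (2 ^ m₀)) →* K, Function.Injective f ∧ ∀ x, α (f x) = f x := by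
  obtain ⟨E, hE, f, hf⟩ := Row.fix (row_tf4 hm hF) e α hα (fun E => twistedF4 ↥E (2 ^ m))
    fun E _ => words_f4 E.subtype _
  have hE' : 2 ^ (2 * m + 1) = Nat.card ↥E ^ orderOf α := by rw [← hE, Nat.card_eq_fintype_card, hF]
  obtain ⟨m₀, j, h1, h2⟩ := exists_odd_exp Nat.prime_two hE'
  refine ⟨E, m₀, hE, h1, ?_⟩
  rw [← twistedF4_congr (E := ↥E) (e := 2 ^ m) (pow_eq h1 h2)]
  exact ⟨f, hf⟩

end Ree

/-! ### Suzuki groups -/

section Sz

open Cfsg.Agent.LieRecognition.SzMatrix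

theorem map_sz {E : Type*} [Field E] {F : Type*} [Field F] (f : E →+* F) (e : ℕ) :
    (Cfsg.Lie.Sz E e).map (Matrix.GeneralLinearGroup.map f) ≤ Cfsg.Lie.Sz F e := by
  unfold Cfsg.Lie.Sz
  rw [MonoidHom.map_closure]
  refine Subgroup.closure_mono ?_
  rintro _ ⟨g, ⟨h1, h2⟩, rfl⟩
  have h3 : ((Matrix.GeneralLinearGroup.map f g : GL (Fin 4) F) : Matrix (Fin 4) (Fin 4) F) =
      (g : Matrix (Fin 4) (Fin 4) E).map f := rfl
  have hJ : (J E).map f = J F := by
    ext i j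
    fin_cases i <;> fin_cases j <;> simp [J]
  refine ⟨?_, ?_⟩
  · rw [mem_Sp4_iff] at h1 ⊢
    rw [h3, ← Matrix.transpose_map, ← hJ, ← Matrix.map_mul, ← Matrix.map_mul, h1]
  · rw [h3]
    ext p r
    have h4 := congrFun (congrFun h2 p) r
    rw [star4_apply, Matrix.map_apply] at h4
    rw [star4_apply, Matrix.map_apply, Matrix.map_apply, Matrix.map_apply, Matrix.map_apply, Matrix.map_apply,
      Matrix.map_apply, ← map_pow, ← h4, map_sub, map_mul, map_mul]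

theorem sz_congr {E : Type*} [Field E] {e e₀ : ℕ} (h : ∀ x : E, x ^ e = x ^ e₀) :
    Cfsg.Lie.Sz E e = Cfsg.Lie.Sz E e₀ := by
  unfold Cfsg.Lie.Sz
  simp only [h]

variable {F : Type*} [Field F] [Fintype F] {K : Type*} [Group K] {m : ℕ}

theorem fix_sz (hm : 1 ≤ m) (hF : Fintype.card F = 2 ^ (2 * m + 1)) (e : K ≃* ↥(Cfsg.Lie.Sz F (2 ^ (m + 1))))
    (α : MulAut K) (hα : (orderOf α).Coprime (Nat.card K)) :
    ∃ (E : Subfield F) (m₀ : ℕ), Nat.card F = Nat.card ↥E ^ orderOf α ∧ Nat.card ↥E = 2 ^ (2 * m₀ + 1) ∧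
      ∃ f : ↥(Cfsg.Lie.Sz ↥E (2 ^ (m₀ + 1))) →* K, Function.Injective f ∧ ∀ x, α (f x) = f x := by
  obtain ⟨E, hE, f, hf⟩ := Row.fix (row_sz hm hF) e α hα (fun E => Cfsg.Lie.Sz ↥E (2 ^ (m + 1)))
    fun E _ => map_sz E.subtype _
  have hE' : 2 ^ (2 * m + 1) = Nat.card ↥E ^ orderOf α := by rw [← hE, Nat.card_eq_fintype_card, hF]
  obtain ⟨m₀, j, h1, h2⟩ := exists_odd_exp Nat.prime_two hE'
  refine ⟨E, m₀, hE, h1, ?_⟩
  rw [← sz_congr (E := ↥E) (e := 2 ^ (m + 1)) (pow_eq h1 (by rw [h2]; ring : m + 1 = m₀ + 1 + j * (2 * m₀ + 1)))]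
  exact ⟨f, hf⟩

end Sz

/-! ### `²E₆(q)` -/

section E6

theorem words_e6 {E : Type*} [Field E] {F : Type*} [Field F] (f : E →+* F) (q : ℕ) :
    (twistedE6 E q).map (Matrix.GeneralLinearGroup.map f) ≤ twistedE6 F q := by
  refine map_genSubgroup_le chevE6 f ?_
  rintro w (⟨t, ht, r, hr, rfl⟩ | ⟨t, rs, hrs, rfl⟩)
  · left
    exact ⟨f t, by rw [← map_pow, ht], r, hr, rfl⟩
  · right
    exact ⟨f t, rs, hrs, by simp⟩

theorem twistedE6_congr {E : Type*} [Field E] {e e₀ : ℕ} (h : ∀ x : E, x ^ e = x ^ e₀) :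
    twistedE6 E e = twistedE6 E e₀ := by
  unfold twistedE6 e6Words
  simp only [h]

variable {F : Type*} [Field F] [Fintype F] {K : Type*} [Group K] {q : ℕ}

theorem fix_2e6 (hq : IsPrimePow q) (hF : Fintype.card F = q ^ 2) (hs : Schreier.Basic.Sch ↥(twistedE6 F q))
    (h2 : Even (Nat.card K)) (e : K ≃* ↥(twistedE6 F q)) (α : MulAut K) (hα : (orderOf α).Coprime (Nat.card K)) :
    ∃ (E : Subfield F) (q₀ : ℕ), Nat.card F = Nat.card ↥E ^ orderOf α ∧ Nat.card ↥E = q₀ ^ 2 ∧ IsPrimePow q₀ ∧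
      q = q₀ ^ orderOf α ∧ ∃ f : ↥(twistedE6 ↥E q₀) →* K, Function.Injective f ∧ ∀ x, α (f x) = f x := by
  obtain ⟨E, hE, f, hf⟩ := Row.fix (row_2e6 hq hF hs) e α hα (fun E => twistedE6 ↥E q)
    fun E _ => words_e6 E.subtype _
  obtain ⟨p, a, hp, ha, rfl⟩ := (isPrimePow_nat_iff _).1 hq
  set n := orderOf α with hn
  have hno : Odd n := by
    rw [← Nat.not_even_iff_odd]
    intro h
    have h3 := Nat.dvd_gcd h.two_dvd h2.two_dvd
    rw [hα] at h3
    omega
  have hE' : p ^ (a * 2) = Nat.card ↥E ^ n := by rw [← hE, Nat.card_eq_fintype_card, hF, ← pow_mul]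
  obtain ⟨k, hk, hkn⟩ := exists_log hp (by rintro h0; rw [h0] at hno; exact absurd hno (by decide)) hE'
  have hke : Even k := by
    by_contra hko
    rw [Nat.not_even_iff_odd] at hko
    have := hko.mul hno
    rw [hkn] at this
    exact absurd this (by rw [Nat.not_odd_iff_even]; exact ⟨a, by ring⟩)
  obtain ⟨a₀, ha₀⟩ := hke
  obtain ⟨j, hj⟩ := hno
  have h1 : a = a₀ * n := by
    have : 2 * a = 2 * (a₀ * n) := by rw [mul_comm 2 a, ← hkn, ha₀]; ring
    omega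
  have ha₀0 : a₀ ≠ 0 := by
    rintro rfl
    rw [zero_mul] at h1; omega
  have hc : Nat.card ↥E = (p ^ a₀) ^ 2 := by rw [hk, ha₀, ← pow_mul]; congr 1; ring
  refine ⟨E, p ^ a₀, hE, hc, ?_, ?_, ?_⟩
  · exact hp.isPrimePow.pow ha₀0
  · rw [← pow_mul, ← h1]
  · have h3 : a = a₀ + j * k := by rw [h1, hj, ha₀]; ring
    rw [← twistedE6_congr (E := ↥E) (e := p ^ a) (pow_eq hk h3)]
    exact ⟨f, hf⟩

end E6

end Cfsg.Agent.H967.CopFix
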