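import Mathlib
import Cfsg.Agent.H967.CopFix
import Cfsg.Agent.ChevalleyStructure.SignedSymm
import Cfsg.Agent.ChevalleyStructure.D4Cols

/-!
# The fixed points of coprime automorphisms of `³D₄(q)`

`symm` : the graph symmetry of `D₄` exchanging the last two nodes; it carries `³D₄` for the triality `t ↦ t ^ q` to
`³D₄` for the inverse triality.
-/

set_option autoImplicit false

namespace Cfsg.Agent.H967.CopD4

open Cfsg.Lie Cfsg.Agent.H967.CopMat Cfsg.Agent.H967.CopRow Cfsg.Agent.H967.CopSec Cfsg.Agent.H967.CopChev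
  Cfsg.Agent.H967.CopTw Cfsg.Agent.H967.CopFix Cfsg.Agent.ChevalleyStructure.SignedSymm

/-- Tables of the graph symmetry [0, 1, 3, 2] of D4. -/
def tab : Tables where
  rho := [0, 1, 3, 2, 4, 5, 6, 8, 7, 9, 11, 10, 13, 12, 14, 16, 15, 17, 18, 19, 21, 20, 22, 23]
  rhoInv := [0, 1, 3, 2, 4, 5, 6, 8, 7, 9, 11, 10, 13, 12, 14, 16, 15, 17, 18, 19, 21, 20, 22, 23]
  eps := [1, 1, 1, 1, 1, 1, 1, 1, 1, 1, 1, 1, 1, 1, 1, 1, 1, 1, 1, 1, 1, 1, 1, 1]
  rho0 := [0, 1, 3, 2]
  rho0Inv := [0, 1, 3, 2]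
  del := [1, 1, 1, 1]

set_option maxRecDepth 100000 in
theorem check_tab : tab.check chevD4 = true := by decide +kernel

/-- The graph symmetry [0, 1, 3, 2] of D4. -/
def symm : Symm chevD4 := Tables.toSymm check_tab

theorem symm_val (r : Fin chevD4.nroots) : (symm.σ r).val = tab.rho.getD r.val 0 := rfl

theorem eps_val : ∀ r : Fin chevD4.nroots, symm.ε r = 1 := by decide +kernel

theorem conj_x (E : Type*) [Field E] (r : ℕ) (hr : r < 24) (t : E) :
    symm.mat E * chevD4.x E r t * symm.matInv E = chevD4.x E (tab.rho.getD r 0) t := by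
  have h := symm.mat_conj_x E (⟨r, hr⟩ : Fin chevD4.nroots) t
  rw [eps_val, Int.cast_one, one_mul] at h
  exact h

theorem conj_mul (E : Type*) [Field E] (A B : Matrix chevD4.Idx chevD4.Idx E) :
    symm.mat E * (A * B) * symm.matInv E = (symm.mat E * A * symm.matInv E) * (symm.mat E * B * symm.matInv E) := by
  have h := symm.matInv_mul_mat E
  calc symm.mat E * (A * B) * symm.matInv E = symm.mat E * A * 1 * B * symm.matInv E := by
        rw [mul_one]; simp only [mul_assoc]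
    _ = symm.mat E * A * (symm.matInv E * symm.mat E) * B * symm.matInv E := by rw [h]
    _ = _ := by simp only [mul_assoc]

/-- The groups for the two trialities. -/
theorem le_comap {E : Type*} [Field E] {q q' : ℕ} (h1 : ∀ t : E, t ^ q = t ^ (q' ^ 2)) (h2 : ∀ t : E, t ^ (q ^ 2) = t ^ q')
    (h3 : ∀ t : E, t ^ q' = t → t ^ q = t) :
    (twistedD4 E q').map (MulAut.conj (symm.P E)).toMonoidHom ≤ twistedD4 E q := by
  rw [Subgroup.map_le_iff_le_comap]
  unfold twistedD4 ChevalleyDatum.genSubgroup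
  rw [Subgroup.closure_le]
  rintro g ⟨w, hw, hg⟩
  refine Subgroup.subset_closure ?_
  have hc : ((((MulAut.conj (symm.P E)).toMonoidHom g : GL chevD4.Idx E)) : Matrix chevD4.Idx chevD4.Idx E) =
      symm.mat E * (g : Matrix chevD4.Idx chevD4.Idx E) * symm.matInv E := rfl
  rcases hw with ⟨t, ht, r, hr, rfl⟩ | ⟨t, rs, hrs, rfl⟩
  · refine ⟨[(r, t)], Or.inl ⟨t, h3 t ht, r, hr, rfl⟩, ?_⟩
    rw [hc, hg]
    simp only [ChevalleyDatum.wordMat, List.map_cons, List.map_nil, List.prod_cons, List.prod_nil, mul_one]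
    simp only [List.mem_cons, List.not_mem_nil, or_false] at hr
    rcases hr with rfl | rfl
    · exact conj_x E _ (by decide) t
    · exact conj_x E _ (by decide) t
  · refine ⟨[(rs.1, t), (rs.2.1, t ^ q), (rs.2.2, t ^ (q ^ 2))], Or.inr ⟨t, rs, hrs, rfl⟩, ?_⟩
    rw [hc, hg]
    simp only [ChevalleyDatum.wordMat, List.map_cons, List.map_nil, List.prod_cons, List.prod_nil, mul_one]
    rw [conj_mul, conj_mul, h1, h2]
    simp only [List.mem_cons, List.not_mem_nil, or_false] at hrs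
    rcases hrs with rfl | rfl
    · show symm.mat E * chevD4.x E d4p1 t * symm.matInv E * (symm.mat E * chevD4.x E d4p3 (t ^ q') * symm.matInv E *
        (symm.mat E * chevD4.x E d4p4 (t ^ (q' ^ 2)) * symm.matInv E)) = chevD4.x E d4p1 t *
          (chevD4.x E d4p3 (t ^ (q' ^ 2)) * chevD4.x E d4p4 (t ^ q'))
      rw [conj_x E _ (by decide), conj_x E _ (by decide), conj_x E _ (by decide)]
      have := Cfsg.Agent.ChevalleyStructure.D4Cols.x_comm (F := E) (r := d4p3) (s := d4p4) (by decide) (t ^ (q' ^ 2))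
        (t ^ q')
      rw [this]
      rfl
    · show symm.mat E * chevD4.x E d4m1 t * symm.matInv E * (symm.mat E * chevD4.x E d4m3 (t ^ q') * symm.matInv E *
        (symm.mat E * chevD4.x E d4m4 (t ^ (q' ^ 2)) * symm.matInv E)) = chevD4.x E d4m1 t *
          (chevD4.x E d4m3 (t ^ (q' ^ 2)) * chevD4.x E d4m4 (t ^ q'))
      rw [conj_x E _ (by decide), conj_x E _ (by decide), conj_x E _ (by decide)]
      have := Cfsg.Agent.ChevalleyStructure.D4Cols.x_comm (F := E) (r := d4m3) (s := d4m4) (by decide) (t ^ (q' ^ 2))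
        (t ^ q')
      rw [this]
      rfl

theorem words_d4 {E : Type*} [Field E] {F : Type*} [Field F] (f : E →+* F) (q : ℕ) :
    (twistedD4 E q).map (Matrix.GeneralLinearGroup.map f) ≤ twistedD4 F q := by
  refine map_genSubgroup_le chevD4 f ?_
  rintro w (⟨t, ht, r, hr, rfl⟩ | ⟨t, rs, hrs, rfl⟩)
  · left
    exact ⟨f t, by rw [← map_pow, ht], r, hr, rfl⟩
  · right
    exact ⟨f t, rs, hrs, by simp⟩

theorem twistedD4_congr {E : Type*} [Field E] {e e₀ : ℕ} (h : ∀ x : E, x ^ e = x ^ e₀) :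
    twistedD4 E e = twistedD4 E e₀ := by
  have h2 : ∀ x : E, x ^ (e ^ 2) = x ^ (e₀ ^ 2) := fun x => by rw [pow_two, pow_mul, h, h, ← pow_mul, ← pow_two]
  unfold twistedD4 d4Words
  simp only [h, h2]

variable {F : Type*} [Field F] [Fintype F] {K : Type*} [Group K] {q : ℕ}

theorem fix_d4 (hq : IsPrimePow q) (hF : Fintype.card F = q ^ 3) (h6 : 3 ∣ Nat.card K)
    (e : K ≃* ↥(twistedD4 F q)) (α : MulAut K) (hα : (orderOf α).Coprime (Nat.card K)) :
    ∃ (E : Subfield F) (q₀ : ℕ), Nat.card F = Nat.card ↥E ^ orderOf α ∧ Nat.card ↥E = q₀ ^ 3 ∧ IsPrimePow q₀ ∧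
      q = q₀ ^ orderOf α ∧ ∃ f : ↥(twistedD4 ↥E q₀) →* K, Function.Injective f ∧ ∀ x, α (f x) = f x := by
  obtain ⟨E, hE, f, hf⟩ := Row.fix (row_d4 hq hF) e α hα (fun E => twistedD4 ↥E q)
    fun E _ => words_d4 E.subtype _
  obtain ⟨p, a, hp, ha, rfl⟩ := (isPrimePow_nat_iff _).1 hq
  set n := orderOf α with hn
  have hn3 : ¬ 3 ∣ n := by
    intro h
    have h3 := Nat.dvd_gcd h h6
    rw [hα] at h3
    omega
  have hn0 : n ≠ 0 := by rintro h0; rw [h0] at hn3; exact hn3 (dvd_zero 3)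
  have hE' : p ^ (a * 3) = Nat.card ↥E ^ n := by rw [← hE, Nat.card_eq_fintype_card, hF, ← pow_mul]
  obtain ⟨k, hk, hkn⟩ := exists_log hp hn0 hE'
  have hk3 : 3 ∣ k := by
    have h1 : 3 ∣ k * n := ⟨a, by rw [hkn]; ring⟩
    exact ((Nat.prime_three.dvd_mul).1 h1).resolve_right hn3
  obtain ⟨a₀, rfl⟩ := hk3
  have h1 : a = a₀ * n := by
    have : 3 * a = 3 * (a₀ * n) := by rw [mul_comm 3 a, ← hkn]; ring
    omega
  have ha₀0 : a₀ ≠ 0 := by
    rintro rfl
    rw [zero_mul] at h1; omega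
  have hc : Nat.card ↥E = (p ^ a₀) ^ 3 := by rw [hk, ← pow_mul]; congr 1; ring
  refine ⟨E, p ^ a₀, hE, hc, hp.isPrimePow.pow ha₀0, by rw [← pow_mul, ← h1], ?_⟩
  have hn3' : n % 3 = 1 ∨ n % 3 = 2 := by omega
  rcases hn3' with h3 | h3
  · have h4 : a = a₀ + (n / 3) * (3 * a₀) := by
      conv_lhs => rw [h1, ← Nat.div_add_mod n 3, h3]
      ring
    rw [← twistedD4_congr (E := ↥E) (e := p ^ a) (pow_eq hk h4)]
    exact ⟨f, hf⟩
  · have h4 : a = 2 * a₀ + (n / 3) * (3 * a₀) := by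
      conv_lhs => rw [h1, ← Nat.div_add_mod n 3, h3]
      ring
    have h5 : ∀ t : ↥E, t ^ p ^ a = t ^ ((p ^ a₀) ^ 2) := fun t => by
      rw [pow_eq hk h4 t, ← pow_mul, mul_comm a₀ 2]
    have h7 : ∀ t : ↥E, t ^ (p ^ a₀) ^ 4 = t ^ (p ^ a₀) := fun t => by
      rw [← pow_mul]
      exact pow_eq hk (by ring : a₀ * 4 = a₀ + 1 * (3 * a₀)) t
    have h8 : ∀ t : ↥E, t ^ ((p ^ a) ^ 2) = t ^ (p ^ a₀) := fun t => by
      rw [pow_two (p ^ a), pow_mul, h5, h5, ← pow_mul, ← pow_add]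
      exact h7 t
    have h9 : ∀ t : ↥E, t ^ (p ^ a₀) = t → t ^ (p ^ a) = t := fun t ht => by
      rw [h5, pow_two, pow_mul, ht, ht]
    have hle := le_comap h5 h8 h9
    let j : ↥(twistedD4 ↥E (p ^ a₀)) →* ↥(twistedD4 ↥E (p ^ a)) :=
      { toFun := fun g => ⟨(MulAut.conj (symm.P ↥E)).toMonoidHom g.1, hle ⟨g.1, g.2, rfl⟩⟩
        map_one' := Subtype.ext (map_one _)
        map_mul' := fun x y => Subtype.ext (map_mul _ _ _) }
    refine ⟨f.comp j, ?_, fun x => hf.2 (j x)⟩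
    refine hf.1.comp ?_
    intro x y hxy
    exact Subtype.ext ((MulAut.conj (symm.P ↥E)).injective (congrArg Subtype.val hxy))

end Cfsg.Agent.H967.CopD4
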