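import Mathlib
import Cfsg.Agent.FixBN.OfBN
import Cfsg.Agent.S0320

/-!
# A simple group with a split (B, N)-pair: the (B, N)-pair is irreducible

`irreducible` : task T5 of helper255 (for S2967).
-/

set_option autoImplicit false

namespace Cfsg.Agent.H967.SimpleIrr

open Cfsg Cfsg.Agent.LieExceptional.BNPairCore Cfsg.Agent.Tits.Core Cfsg.Agent.Tits.Core.Bldg Cfsg.Agent.Tits.OfBN
  Cfsg.Agent.Schreier.BNSch Cfsg.Agent.Tits.OppRes Cfsg.Agent.FixBN Cfsg.Agent.FixBN.OfBN

variable {K : Type*} [Group K] {P : Cfsg.BNPair K} {p : ℕ} {U : Subgroup K}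

section

variable [hN : ((P.B ⊓ P.N).subgroupOf P.N).Normal] [Finite K]
variable {I : Type*} {M : CoxeterMatrix I} (e : I ≃ P.S) (cs : CoxeterSystem M (WP P))
  (hcs : ∀ i, cs.simple i = QuotientGroup.mk (⟨(e i : K), P.subset (e i).2⟩ : P.N))
variable (S : Split P p U)

omit [Finite K] in
include hcs in
/-- there is a chamber at every distance -/
theorem exists_dist (x : K ⧸ P.B) (w : WP P) : ∃ y, (bldg P e cs hcs).δ x y = w := by
  induction x using QuotientGroup.induction_on with
  | _ g =>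
  obtain ⟨n, rfl⟩ := QuotientGroup.mk_surjective w
  refine ⟨QuotientGroup.mk (g * (n : K)), ?_⟩
  rw [bldg_δ_mk, inv_mul_cancel_left]
  refine wt_of_mem P ?_
  exact mem_C.2 ⟨1, one_mem _, 1, one_mem _, by group⟩

include S in
/-- The main step: a nontrivial element preserving all residues of type `A`. -/
theorem exists_elt (A A' : Set I) (hd : ∀ k, k ∈ A ∨ k ∈ A') (hdis : ∀ k ∈ A, k ∉ A') (hA : A.Nonempty)
    (hcomm : ∀ i ∈ A, ∀ j ∈ A', cs.simple i * cs.simple j = cs.simple j * cs.simple i) :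
    ∃ u : K, u ≠ 1 ∧ ∀ x : K ⧸ P.B, (bldg P e cs hcs).δ x (u • x) ∈ WJ cs A := by
  have hI : Finite I := finite_I e
  have hC : Cox cs := inferInstance
  set Δ := bldg P e cs hcs with hΔ
  have hiso : ∀ (g : K) (a b : K ⧸ P.B), Δ.δ (g • a) (g • b) = Δ.δ a b := fun g a b => dist_smul P g a b
  let c : K ⧸ P.B := QuotientGroup.mk 1
  obtain ⟨d, hcd⟩ := exists_dist e cs hcs c (wJ cs A')
  obtain ⟨i, hi⟩ := hA
  obtain ⟨y, z, hyz, hy, hz⟩ := thick P e cs hcs d i
  have hlen : cs.length (wJ cs A') < cs.length (wJ cs A' * cs.simple i) := by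
    by_contra hle
    have h1 := cs.length_mul_simple_ne (wJ cs A') i
    exact hdis i hi (hC.descent_mem A' (wJ cs A') (hC.wJ_mem A') i (by omega))
  have hcy : Δ.δ c y = wJ cs A' * cs.simple i := by
    have h1 := Δ.step_lt c d y i hy (by rw [hcd]; exact hlen)
    rw [h1, hcd]
  have hcz : Δ.δ c z = wJ cs A' * cs.simple i := by
    have h1 := Δ.step_lt c d z i hz (by rw [hcd]; exact hlen)
    rw [h1, hcd]
  obtain ⟨u, hu, huy⟩ := OfBN.trans S (x := c) (y := y) (z := z) (hcy.trans hcz.symm)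
  have huc : u • c = c := OfBN.fix S hu
  have hu1 : u ≠ 1 := by
    rintro rfl
    rw [one_smul] at huy
    exact hyz huy
  -- `u` fixes `d`
  have hud : u • d = d := by
    have h3 : Δ.δ c (u • d) = wJ cs A' := by
      rw [← hcd]
      conv_lhs => rw [← huc]
      exact hiso u c d
    refine Tits.Rigid.eq_of_short (Δ := Δ) (j := i) h3 hcd hlen ?_
    have h4 : Δ.δ (u • d) z = cs.simple i := by rw [← huy, hiso, hy]
    refine Tits.Rigid.mem_Pan_Res ?_
    refine Δ.mem_Pan_trans (y := z) (Or.inr h4) ?_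
    exact Δ.mem_Pan_symm (Or.inr hz)
  -- `u` fixes the residue of type `A'`
  have hagree : Tits.Rigid.Agree Δ (fun z => u • z) (fun z => z) A' c := by
    intro j hj z hz
    obtain ⟨d', hd1, hd2⟩ := Δ.exists_step d c j
    have hfix : u • d' = d' := by
      have h1 : Δ.δ c d' = cs.simple j := hd1
      have h2 : Δ.δ d d' = (wJ cs A')⁻¹ * cs.simple j := by rw [hd2, Δ.symm c d, hcd]
      have h3 : Δ.δ d (u • d') = (wJ cs A')⁻¹ * cs.simple j := by
        rw [← h2]
        conv_lhs => rw [← hud]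
        exact hiso u d d'
      have h4 : Δ.δ c (u • d') = cs.simple j := by
        rw [← h1]
        conv_lhs => rw [← huc]
        exact hiso u c d'
      refine Tits.Rigid.eq_of_short (Δ := Δ) (j := j) h3 h2 ?_ ?_
      · rw [mul_assoc, cs.simple_mul_simple_self, mul_one]
        have h5 := hC.len_wJ_mul (simple_mem_WJ (cs := cs) hj)
        rw [hC.wJ_inv]
        rw [cs.length_simple] at h5
        omega
      · have h6 : u • d' ∈ Δ.Pan j c := Or.inr h4
        have h7 : d' ∈ Δ.Pan j c := Or.inr h1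
        exact Tits.Rigid.mem_Pan_Res (Δ.mem_Pan_trans (Δ.mem_Pan_symm h6) h7)
    exact pan e cs hcs S hd1 hu hfix hz
  have hres : ∀ z ∈ Δ.Res A' c, u • z = z :=
    Tits.Rigid.rigid (thick P e cs hcs) (φ := fun z => u • z) (ψ := fun z => z) (fun a _ b _ => hiso u a b)
      (fun a _ b _ => rfl) hagree hcd hud
  -- every chamber lies in an `A`-residue of a chamber of that residue
  have hcommW : ∀ v ∈ WJ cs A, ∀ j ∈ A', v * cs.simple j = cs.simple j * v := by
    intro v hv j hj
    have h1 : WJ cs A ≤ Subgroup.centralizer {cs.simple j} := by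
      unfold WJ
      rw [Subgroup.closure_le]
      rintro _ ⟨k, hk, rfl⟩
      exact Subgroup.mem_centralizer_singleton_iff.2 (hcomm k hk j hj)
    exact Subgroup.mem_centralizer_singleton_iff.1 (h1 hv)
  have hcover : ∀ n : ℕ, ∀ x, cs.length (Δ.δ c x) = n → ∃ y ∈ Δ.Res A' c, Δ.δ y x ∈ WJ cs A := by
    intro n
    induction n with
    | zero =>
      intro x hx
      have h1 : Δ.δ c x = 1 := cs.length_eq_zero_iff.1 hx
      rw [Δ.eq_one] at h1
      subst h1
      exact ⟨c, mem_Res_self _ _, mem_Res_self _ _⟩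
    | succ n ih =>
      intro x hx
      have hne : Δ.δ c x ≠ 1 := by
        intro h1
        rw [h1, cs.length_one] at hx
        omega
      obtain ⟨k, hk⟩ := cs.exists_rightDescent_of_ne_one hne
      obtain ⟨x', hx1, hx2⟩ := Δ.exists_step c x k
      have hl : cs.length (Δ.δ c x') = n := by
        have h1 := cs.isRightDescent_iff.1 hk
        rw [hx2]
        omega
      obtain ⟨y, hy, hyx⟩ := ih x' hl
      have hx1' : Δ.δ x' x = cs.simple k := by rw [Δ.symm x x', hx1, cs.inv_simple]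
      rcases hd k with hkA | hkA'
      · refine ⟨y, hy, ?_⟩
        refine delta_mem_of_mem hyx ?_
        rw [hx1']
        exact simple_mem_WJ hkA
      · -- move `y`
        have h2 : cs.length (Δ.δ y x') < cs.length (Δ.δ y x' * cs.simple k) := by
          by_contra hle
          have h1 := cs.length_mul_simple_ne (Δ.δ y x') k
          exact hdis k (hC.descent_mem A _ hyx k (by omega)) hkA'
        have h3 : Δ.δ y x = Δ.δ y x' * cs.simple k := Δ.step_lt y x' x k hx1' h2
        obtain ⟨y', hy1, hy2⟩ := Δ.exists_step x y k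
        refine ⟨y', ?_, ?_⟩
        · show Δ.δ c y' ∈ WJ cs A'
          refine delta_mem_of_mem hy ?_
          rw [hy1]
          exact simple_mem_WJ hkA'
        · have h4 : Δ.δ y' x = Δ.δ y x' := by
            rw [Δ.symm x y', hy2, Δ.symm y x, h3, hcommW _ hyx k hkA', mul_inv_rev, mul_inv_rev, mul_inv_rev,
              inv_inv, inv_inv, ← mul_assoc, inv_mul_cancel, one_mul]
          rw [h4]
          exact hyx
  refine ⟨u, hu1, fun x => ?_⟩
  obtain ⟨y, hy, hyx⟩ := hcover _ x rfl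
  have h1 : Δ.δ x y ∈ WJ cs A := by rw [Δ.symm y x]; exact inv_mem hyx
  have h2 : Δ.δ y (u • x) ∈ WJ cs A := by
    have h3 := hiso u y x
    rw [hres y hy] at h3
    rw [h3]
    exact hyx
  exact delta_mem_of_mem h1 h2

end

/-- **The (B, N)-pair of a simple group is irreducible.** -/
theorem irreducible {K : Type*} [Group K] [Finite K] [IsSimpleGroup K] {p : ℕ} {P : Cfsg.BNPair K} {U : Subgroup K}
    (h : Cfsg.Agent.FixBN.Split P p U) : P.Irreducible := by
  intro J hJ hJne hJ'ne
  by_contra hcon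
  push Not at hcon
  have hN : ((P.B ⊓ P.N).subgroupOf P.N).Normal := Cfsg.Agent.Tits.OfBN.normal_subgroupOf P
  obtain ⟨M, cs, hcs⟩ := Cfsg.Agent.S0320.result P
  set e : P.S ≃ P.S := Equiv.refl P.S with he
  have hI : Finite P.S := finite_I e
  have hC : Cox cs := inferInstance
  let A : Set P.S := {i | (i : K) ∈ J}
  have hcomm : ∀ i ∈ A, ∀ j ∈ Aᶜ, cs.simple i * cs.simple j = cs.simple j * cs.simple i := by
    intro i hi j hj
    have h1 := hcon i hi j ⟨j.2, hj⟩
    rw [hcs, hcs, ← QuotientGroup.mk_mul, ← QuotientGroup.mk_mul, eq_comm, mk_eq_iff]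
    show ((j : K) * i)⁻¹ * (i * j) ∈ P.B
    have hBN : (i : K) * j * (i : K)⁻¹ * (j : K)⁻¹ ∈ P.B ⊓ P.N := by
      refine Subgroup.mem_inf.2 ⟨h1, ?_⟩
      have hi' := P.subset i.2
      have hj' := P.subset j.2
      exact mul_mem (mul_mem (mul_mem hi' hj') (inv_mem hi')) (inv_mem hj')
    have h2 := P.conj_mem ((j : K) * i)⁻¹ (inv_mem (mul_mem (P.subset j.2) (P.subset i.2))) _ hBN
    have h3 : ((j : K) * i)⁻¹ * ((i : K) * j * (i : K)⁻¹ * (j : K)⁻¹) * (((j : K) * i)⁻¹)⁻¹ =
        ((j : K) * i)⁻¹ * (i * j) := by group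
    rwa [h3] at h2
  obtain ⟨s, hs⟩ := hJne
  obtain ⟨s', hs'⟩ := hJ'ne
  obtain ⟨u, hu1, hu⟩ := exists_elt e cs hcs h A Aᶜ (fun k => Classical.em _) (fun k hk hk' => hk' hk) ⟨⟨s, hJ hs⟩, hs⟩
    hcomm
  set Δ := bldg P e cs hcs with hΔ
  have hiso : ∀ (g : K) (a b : K ⧸ P.B), Δ.δ (g • a) (g • b) = Δ.δ a b := fun g a b => dist_smul P g a b
  let N : Subgroup K :=
    { carrier := {g | ∀ x : K ⧸ P.B, Δ.δ x (g • x) ∈ WJ cs A}
      one_mem' := fun x => by rw [one_smul]; exact mem_Res_self _ _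
      mul_mem' := fun {g k} hg hk x => by
        rw [mul_smul]
        exact delta_mem_of_mem (hk x) (hg (k • x))
      inv_mem' := fun {g} hg x => by
        have h1 := hg (g⁻¹ • x)
        rw [smul_inv_smul] at h1
        rw [Δ.symm (g⁻¹ • x) x]
        exact inv_mem h1 }
  have hNn : N.Normal := by
    constructor
    intro g hg k x
    have h1 := hg (k⁻¹ • x)
    have h2 := hiso k (k⁻¹ • x) (g • k⁻¹ • x)
    rw [smul_inv_smul] at h2
    rw [mul_smul, mul_smul, h2]
    exact h1
  rcases hNn.eq_bot_or_eq_top with h1 | h1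
  · have h2 : u ∈ N := hu
    rw [h1, Subgroup.mem_bot] at h2
    exact hu1 h2
  · obtain ⟨y, hy⟩ := exists_dist e cs hcs (QuotientGroup.mk 1) (cs.simple ⟨s', hs'.1⟩)
    induction y using QuotientGroup.induction_on with
    | _ g =>
    have h2 : g ∈ N := by rw [h1]; trivial
    have h3 : Δ.δ (QuotientGroup.mk 1 : K ⧸ P.B) (QuotientGroup.mk g) ∈ WJ cs A := by
      have h4 := h2 (QuotientGroup.mk 1)
      rwa [smul_mk, mul_one] at h4
    rw [hy] at h3
    have h4 := hC.descent_mem A _ h3 ⟨s', hs'.1⟩ (by rw [cs.simple_mul_simple_self, cs.length_one, cs.length_simple]; omega)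
    exact hs'.2 h4

end Cfsg.Agent.H967.SimpleIrr
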