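import Mathlib
import Cfsg.Agent.H687.Theta
import Cfsg.Agent.Nodes.CenVV
import Cfsg.Agent.Nodes.NormX
import Cfsg.Agent.KFacts.RgdAutFacts
import Cfsg.Agent.KFacts.RgdRigid
import Cfsg.Agent.KFacts.RgdDiag
import Cfsg.Agent.KFacts.RgdAut

/-!
# S4834: the hypotheses of `theta_good` for groups with a root group datum (helper967)
-/

set_option autoImplicit false
set_option linter.unusedSectionVars false

namespace Cfsg.Agent.H967.ThRgd

open CoxeterSystem Cfsg.Agent.ChevalleyStructure.CoxeterGeom Cfsg.Agent.Tits.Roots Cfsg.Agent.Tits.Core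
  Cfsg.Agent.Tits.Exchange Cfsg.Agent.Nodes.Reps Cfsg.Agent.Nodes.BNOf Cfsg.Agent.Nodes.StabComb
  Cfsg.Agent.Nodes.Bruhat Cfsg.Agent.Nodes.OppDec Cfsg.Agent.Nodes.LeviDec Cfsg.Agent.Nodes.NormX
  Cfsg.Agent.KFacts.RgdAut Cfsg.Agent.KFacts.RgdDiag Cfsg.Agent.KFacts.RgdRigid Cfsg.Agent.H687

section

variable {I W Y : Type*} [Fintype I] [DecidableEq I] [Group W] [Finite W] [Group Y] {M : CoxeterMatrix I}
  {cs : CoxeterSystem M W} {A : I → I → ℤ} {h : IsCartan M A} {p : ℕ} {T : Subgroup Y} {n : I → Y}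
  {X : (I → ℤ) → Subgroup Y} (R : RGD cs h p T n X)

/-- every root is sent to its negative by an element of the Weyl group -/
theorem exists_neg {r : I → ℤ} (hr : IsRoot cs h r) : ∃ w : W, rep cs h w r = -r := by
  obtain ⟨u, i, rfl⟩ := hr
  refine ⟨u * cs.simple i * u⁻¹, ?_⟩
  rw [rep_mul_apply, rep_mul_apply, rep_inv_apply, rep_simple_sr, map_neg]

include R

/-- an automorphism maps the root group of `r` to a conjugate, if the frame automorphisms fix it -/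
theorem exists_conj_aut [Finite Y] [Fact p.Prime] (hG : GG cs h T X = ⊤) {r : I → ℤ}
    (hsym : ∀ (β : MulAut Y) (σ : Equiv.Perm I), Diag T X β σ → ∀ x, β x ∈ X r ↔ x ∈ X r) (φ : MulAut Y) :
    ∃ s : Y, ∀ x, s * φ x * s⁻¹ ∈ X r ↔ x ∈ X r := by
  obtain ⟨S, hS⟩ := Cfsg.Agent.KFacts.RgdAutFacts.exists_sylow R hG
  obtain ⟨g, hg⟩ := MulAction.exists_smul_eq Y (φ • S) S
  have h1 : Fix (MulAut.conj g * φ) (RGD.Sup X (RGD.Pos cs h)) := by
    rw [fix_iff, ← hS]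
    have h2 : ((g • φ • S : Sylow p Y) : Subgroup Y) = (S : Subgroup Y) := by rw [hg]
    have h4 : ((g • φ • S : Sylow p Y) : Subgroup Y) =
        ((S : Subgroup Y).map φ.toMonoidHom).map (MulAut.conj g).toMonoidHom := rfl
    conv_rhs => rw [← h2, h4, Subgroup.map_map]
    rfl
  obtain ⟨u, -, h2, -, h3, -, -⟩ := exists_frame R hG h1
  obtain ⟨σ, hσ⟩ := exists_diag R hG h2 h3
  refine ⟨u * g, fun x => ?_⟩
  rw [← hsym _ σ hσ x]
  have : (MulAut.conj u * (MulAut.conj g * φ)) x = u * g * φ x * (u * g)⁻¹ := by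
    simp only [MulAut.mul_apply, MulAut.conj_apply, mul_inv_rev]
    group
  rw [this]

end

section Long

variable {I W Y : Type*} [Fintype I] [DecidableEq I] [Group W] [Finite W] [Group Y] {M : CoxeterMatrix I}
  {cs : CoxeterSystem M W} {A : I → I → ℤ} {h : IsCartan M A} {p : ℕ} {T : Subgroup Y} {n : I → Y}
  {X : (I → ℤ) → Subgroup Y} {R : RGD cs h p T n X} {r : I → ℤ} (L : Long R r (X r)) {F : Type*} [Field F]
  {z : F → Y} (hz : ∀ y, y ∈ X r ↔ ∃ a, z a = y)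

include L hz

theorem nrm_of_mem {y : Y} (hy : y ∈ Subgroup.normalizer (X r : Set Y)) : Nrm z y := by
  intro a
  obtain ⟨b, hb⟩ := (hz _).1 ((Subgroup.mem_normalizer_iff.1 hy (z a)).1 ((hz _).2 ⟨a, rfl⟩))
  exact ⟨b, hb.symm⟩

theorem nrm_rp {w : W} {k : Y} (hk : Rp cs R.nsys w k) (hw : rep cs h w r = r) : Nrm z k :=
  nrm_of_mem L hz ((L.mem_normalizer_iff hk).2 hw)

theorem z_ne (z_inj : Function.Injective z) (z_add : ∀ a b, z (a + b) = z a * z b) {a : F} (ha : a ≠ 0) : z a ≠ 1 := by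
  have h0 : z 0 = 1 := by
    have := z_add 0 0
    rw [add_zero] at this
    exact (mul_eq_left.1 this.symm)
  rw [← h0]
  exact fun e => ha (z_inj e)

/-- an element of the opposite root group normalising `X r` is trivial -/
theorem opp_eq_one [Finite Y] {y : Y} (hG : GG cs h T X = ⊤) (hy : y ∈ X (-r)) (hN : Nrm z y) : y = 1 := by
  have hN' : y ∈ Subgroup.normalizer (X r : Set Y) := by
    rw [mem_normalizer_iff_cj]
    apply Subgroup.eq_of_le_of_card_ge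
    · intro u hu
      rw [mem_cj] at hu
      obtain ⟨a, ha⟩ := (hz _).1 hu
      obtain ⟨b, hb⟩ := hN a
      rw [hz]
      exact ⟨b, by rw [← hb, ha]; group⟩
    · exact (Nat.card_congr (Subgroup.equivSMul (MulAut.conj y) (X r)).toEquiv).le
  have h1 : y ∈ PJ cs h T X (orth cs h r) := by
    rw [← L.normalizer_inf_GG]
    exact ⟨hN', by rw [hG]; exact Subgroup.mem_top _⟩
  have h2 : y ∈ VNJ cs h X (orth cs h r) := by
    refine RGD.le_Sup (S := NotNJ cs h (orth cs h r)) ?_ hy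
    have := Fintype.ofFinite W
    rw [mem_NotNJ_iff L.dom L.root.neg, form_neg_right]
    have := form_pos cs h L.root.ne_zero
    omega
  exact eq_one_of_mem_VNJ_of_mem_PJ R h2 h1

end Long

section Main

variable {I W Y : Type*} [Fintype I] [DecidableEq I] [Group W] [Finite W] [Group Y] {M : CoxeterMatrix I}
  {cs : CoxeterSystem M W} {A : I → I → ℤ} {h : IsCartan M A} {p : ℕ} {T : Subgroup Y} {n : I → Y}
  {X : (I → ℤ) → Subgroup Y} {R : RGD cs h p T n X} {r : I → ℤ} (L : Long R r (X r)) {F : Type*} [Field F]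
  {z : F → Y} (hz : ∀ y, y ∈ X r ↔ ∃ a, z a = y)

include L hz

theorem x2 [Finite Y] (z_inj : Function.Injective z) (z_add : ∀ a b, z (a + b) = z a * z b) (hG : GG cs h T X = ⊤)
    {w : W} {x₀ : Y} (hx : Rp cs R.nsys w x₀) (hw : rep cs h w r = -r) (a : F)
    (ha : Nrm z (x₀ * z a * x₀⁻¹)) : a = 0 := by
  by_contra h0
  have h1 : x₀ * z a * x₀⁻¹ ∈ X (-r) := by
    have := R.conj_mem hx L.root ((hz (z a)).2 ⟨a, rfl⟩)
    rwa [hw] at this
  have h2 := opp_eq_one L hz hG h1 ha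
  apply z_ne L hz z_inj z_add h0
  have : z a = x₀⁻¹ * (x₀ * z a * x₀⁻¹) * x₀ := by group
  rw [this, h2]; group

theorem x3 [Finite Y] (z_inj : Function.Injective z) (z_add : ∀ a b, z (a + b) = z a * z b)
    {w : W} {x₀ : Y} (hx : Rp cs R.nsys w x₀) (hw : rep cs h w r = -r) (a : F) (ha : a ≠ 0) :
    ∃ b, Nrm z (x₀⁻¹ * z b * x₀ * z a * x₀⁻¹) := by
  have := Fintype.ofFinite W
  obtain ⟨a', ha', b', hb', v, k, hk, hv, e⟩ := Cfsg.Agent.Nodes.CenVV.exists_mu R L.root ((hz (z a)).2 ⟨a, rfl⟩)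
    (z_ne L hz z_inj z_add ha)
  have h1 : x₀ * a'⁻¹ * x₀⁻¹ ∈ X r := by
    have := R.conj_mem hx L.root.neg (inv_mem ha')
    rwa [map_neg, hw, neg_neg] at this
  have h2 : x₀ * b' * x₀⁻¹ ∈ X r := by
    have := R.conj_mem hx L.root.neg hb'
    rwa [map_neg, hw, neg_neg] at this
  obtain ⟨b, hb⟩ := (hz _).1 h1
  refine ⟨b, nrm_of_mem L hz ?_⟩
  have e2 : x₀⁻¹ * z b * x₀ * z a * x₀⁻¹ = (k * x₀⁻¹) * (x₀ * b' * x₀⁻¹) := by
    rw [hb, e]; group
  rw [e2]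
  refine mul_mem ((L.mem_normalizer_iff (hk.mul hx.inv)).2 ?_) (Subgroup.le_normalizer h2)
  have hw' : rep cs h w⁻¹ r = -r := by
    have h3 : rep cs h w⁻¹ (rep cs h w r) = r := rep_inv_apply cs h w r
    rw [hw, map_neg] at h3
    exact neg_eq_iff_eq_neg.1 h3
  rw [rep_mul_apply, hw', hv, Cfsg.Agent.Nodes.Coroot.cpr_neg cs h r L.root,
    Cfsg.Agent.Nodes.Coroot.cpr_self cs h L.root]
  simp only [neg_smul, two_smul]
  abel

end Main

section Final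

variable {I W Y : Type*} [Fintype I] [DecidableEq I] [Group W] [Finite W] [Group Y] {M : CoxeterMatrix I}
  {cs : CoxeterSystem M W} {A : I → I → ℤ} {h : IsCartan M A} {p : ℕ} {T : Subgroup Y} {n : I → Y}
  {X : (I → ℤ) → Subgroup Y}

/-- **The criterion for a root group datum.** `r` is a dominant root with `B ≤ N(X r)`, `z` parametrises `X r`. -/
theorem good_rgd [Finite Y] [IsSimpleGroup Y] (hna : ∃ a b : Y, a * b ≠ b * a) [Fact p.Prime] (hp : 3 < p)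
    (R : RGD cs h p T n X) (hG : GG cs h T X = ⊤) {r : I → ℤ} (L : Long R r (X r))
    (hsym : ∀ (β : MulAut Y) (σ : Equiv.Perm I), Diag T X β σ → ∀ x, β x ∈ X r ↔ x ∈ X r)
    {F : Type*} [Field F] [Finite F] [CharP F p] {z : F → Y} (z_add : ∀ a b, z (a + b) = z a * z b)
    (z_inj : Function.Injective z) (hz : ∀ y, y ∈ X r ↔ ∃ a, z a = y)
    (h1 : ∃ i : ℤ, Odd i ∧ Wit z 1 i i)
    (h2 : ∀ w k, Rp cs R.nsys w k → rep cs h w r ≠ r → rep cs h w r ≠ -r → ∃ i j : ℤ, Wit z k i j ∧ Odd (i - j))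
    (h3 : ∀ w k, Rp cs R.nsys w k → rep cs h w r ≠ r → ∃ i j : ℤ, Wit z k i j ∧ ¬ ((p : ℤ) - 1 ∣ i - j)) :
    Good p Y := by
  obtain ⟨w₀, hw₀⟩ := exists_neg (cs := cs) (h := h) L.root
  obtain ⟨x₀, hx₀⟩ := exists_rp cs R.nsys w₀
  have hw₀' : rep cs h w₀⁻¹ r = -r := by
    have h3 : rep cs h w₀⁻¹ (rep cs h w₀ r) = r := rep_inv_apply cs h w₀ r
    rw [hw₀, map_neg] at h3
    exact neg_eq_iff_eq_neg.1 h3
  refine theta_good z_add z_inj hp hna ?_ ?_ {k | ∃ w, Rp cs R.nsys w k} ?_ x₀ h1 ?_ ?_ ?_ ?_ ?_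
  · intro φ
    obtain ⟨s, hs⟩ := exists_conj_aut R hG hsym φ
    refine ⟨s, fun a => ?_⟩
    obtain ⟨b, hb⟩ := (hz _).1 ((hs (z a)).2 ((hz _).2 ⟨a, rfl⟩))
    exact ⟨b, hb.symm⟩
  · obtain ⟨S, hS⟩ := Cfsg.Agent.KFacts.RgdAutFacts.exists_sylow R hG
    refine ⟨S, fun u hu => ?_⟩
    rw [hS] at hu
    exact nrm_of_mem L hz (L.B (le_sup_right (a := T) hu))
  · intro y
    obtain ⟨w, b₁, hb₁, k, hk, b₂, hb₂, e⟩ := (mem_GG R).1 (show y ∈ GG cs h T X by rw [hG]; exact Subgroup.mem_top _)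
    refine ⟨b₁⁻¹, b₂⁻¹, nrm_of_mem L hz (L.B (inv_mem hb₁)), nrm_of_mem L hz (L.B (inv_mem hb₂)), w, ?_⟩
    have : b₁⁻¹ * y * b₂⁻¹ = k := by rw [e]; group
    rwa [this]
  · rintro k ⟨w, hk⟩
    by_cases e1 : rep cs h w r = r
    · exact Or.inl (nrm_rp L hz hk e1)
    by_cases e2 : rep cs h w r = -r
    · refine Or.inr (Or.inl (nrm_rp L hz (hx₀.inv.mul hk) ?_))
      rw [rep_mul_apply, e2, map_neg, hw₀', neg_neg]
    · exact Or.inr (Or.inr (h2 w k hk e1 e2))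
  · rintro k ⟨w, hk⟩
    by_cases e1 : rep cs h w r = r
    · exact Or.inl (nrm_rp L hz hk e1)
    · exact Or.inr (h3 w k hk e1)
  · refine nrm_rp L hz (hx₀.mul hx₀) ?_
    rw [rep_mul_apply, hw₀, map_neg, hw₀, neg_neg]
  · exact x2 L hz z_inj z_add hG hx₀ hw₀
  · exact x3 L hz z_inj z_add hx₀ hw₀

end Final

section Coords

variable {I W Y : Type*} [Fintype I] [DecidableEq I] [Group W] [Finite W] [Group Y] {M : CoxeterMatrix I}
  {cs : CoxeterSystem M W} {A : I → I → ℤ} {h : IsCartan M A} {p : ℕ} {T : Subgroup Y} {n : I → Y}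
  {X : (I → ℤ) → Subgroup Y} {R : RGD cs h p T n X} {r : I → ℤ} {F : Type*} [Field F] {x : (I → ℤ) → F → Y}

/-- the representatives of the Weyl group act on the long root groups by scalars -/
theorem exists_scalar (act : ∀ t ∈ T, ∀ w, ∃ c : F, c ≠ 0 ∧ ∀ a, t * x (rep cs h w r) a * t⁻¹ = x (rep cs h w r) (c * a))
    (nact : ∀ i w, ∃ c : F, c ≠ 0 ∧ ∀ a, n i * x (rep cs h w r) a * (n i)⁻¹ = x (rep cs h (cs.simple i * w) r) (c * a))
    {w : W} {k : Y} (hk : Rp cs R.nsys w k) :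
    ∃ c : F, c ≠ 0 ∧ ∀ a, k * x r a * k⁻¹ = x (rep cs h w r) (c * a) := by
  obtain ⟨ω, rfl⟩ := cs.wordProd_surjective w
  induction ω generalizing k with
  | nil =>
    rw [wordProd_nil] at hk ⊢
    have h1 := act k hk.mem_of_one 1
    rwa [map_one, Module.End.one_apply] at h1 ⊢
  | cons i ω ih =>
    rw [wordProd_cons] at hk
    have h1 : Rp cs R.nsys (cs.wordProd ω) ((n i)⁻¹ * k) := by
      have := (rp_simple cs R.nsys i).inv.mul hk
      rwa [inv_mul_cancel_left] at this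
    obtain ⟨c, hc, h2⟩ := ih h1
    obtain ⟨c', hc', h3⟩ := nact i (cs.wordProd ω)
    refine ⟨c' * c, mul_ne_zero hc' hc, fun a => ?_⟩
    rw [wordProd_cons]
    have e : k * x r a * k⁻¹ = n i * ((n i)⁻¹ * k * x r a * ((n i)⁻¹ * k)⁻¹) * (n i)⁻¹ := by group
    rw [e, h2, h3, mul_assoc]

theorem exists_wit (act : ∀ t ∈ T, ∀ w, ∃ c : F, c ≠ 0 ∧ ∀ a, t * x (rep cs h w r) a * t⁻¹ = x (rep cs h w r) (c * a))
    (nact : ∀ i w, ∃ c : F, c ≠ 0 ∧ ∀ a, n i * x (rep cs h w r) a * (n i)⁻¹ = x (rep cs h (cs.simple i * w) r) (c * a))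
    {e : (I → ℤ) → ℤ} (tor : ∀ d : Fˣ, ∃ t ∈ T, ∀ w, ∀ a,
      t * x (rep cs h w r) a * t⁻¹ = x (rep cs h w r) (((d ^ e (rep cs h w r) : Fˣ) : F) * a))
    {w : W} {k : Y} (hk : Rp cs R.nsys w k) : Wit (x r) k (e r) (e (rep cs h w r)) := by
  intro d
  obtain ⟨t, ht, h1⟩ := tor d
  obtain ⟨c, hc, h2⟩ := exists_scalar (R := R) act nact hk
  refine ⟨t, fun a => ?_, fun a => ?_⟩
  · have := h1 1 a
    rwa [map_one, Module.End.one_apply] at this
  · have e1 : k⁻¹ * t * k * x r a * (k⁻¹ * t * k)⁻¹ = k⁻¹ * (t * (k * x r a * k⁻¹) * t⁻¹) * k := by group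
    rw [e1, h2, h1]
    have e2 : ((d ^ e (rep cs h w r) : Fˣ) : F) * (c * a) = c * (((d ^ e (rep cs h w r) : Fˣ) : F) * a) := by ring
    rw [e2, ← h2]
    group

/-- **The criterion in coordinates.** -/
theorem good_coords [Finite Y] [IsSimpleGroup Y] (hna : ∃ a b : Y, a * b ≠ b * a) [Fact p.Prime] (hp : 3 < p)
    (R : RGD cs h p T n X) (hG : GG cs h T X = ⊤) {r : I → ℤ} (L : Long R r (X r))
    (hsym : ∀ (β : MulAut Y) (σ : Equiv.Perm I), Diag T X β σ → ∀ x, β x ∈ X r ↔ x ∈ X r)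
    [Finite F] [CharP F p] (x_add : ∀ a b, x r (a + b) = x r a * x r b)
    (x_inj : Function.Injective (x r)) (hx : ∀ y, y ∈ X r ↔ ∃ a, x r a = y)
    (act : ∀ t ∈ T, ∀ w, ∃ c : F, c ≠ 0 ∧ ∀ a, t * x (rep cs h w r) a * t⁻¹ = x (rep cs h w r) (c * a))
    (nact : ∀ i w, ∃ c : F, c ≠ 0 ∧ ∀ a, n i * x (rep cs h w r) a * (n i)⁻¹ = x (rep cs h (cs.simple i * w) r) (c * a))
    {J : Type*} {e : J → (I → ℤ) → ℤ} (tor : ∀ j, ∀ d : Fˣ, ∃ t ∈ T, ∀ w, ∀ a,
      t * x (rep cs h w r) a * t⁻¹ = x (rep cs h w r) (((d ^ e j (rep cs h w r) : Fˣ) : F) * a))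
    (odd1 : ∃ j, Odd (e j r))
    (odd2 : ∀ w, rep cs h w r ≠ r → rep cs h w r ≠ -r → ∃ j, Odd (e j r - e j (rep cs h w r)))
    (small : ∀ w, rep cs h w r ≠ r → ∃ j, e j r ≠ e j (rep cs h w r) ∧ |e j r - e j (rep cs h w r)| < 4) :
    Good p Y := by
  refine good_rgd hna hp R hG L hsym x_add x_inj hx ?_ ?_ ?_
  · obtain ⟨j, hj⟩ := odd1
    have := exists_wit (R := R) act nact (tor j) (w := 1) (k := 1) (rp_of_mem (one_mem T))
    rw [map_one, Module.End.one_apply] at this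
    exact ⟨_, hj, this⟩
  · intro w k hk h1 h2
    obtain ⟨j, hj⟩ := odd2 w h1 h2
    exact ⟨_, _, exists_wit (R := R) act nact (tor j) hk, hj⟩
  · intro w k hk h1
    obtain ⟨j, hj, hj'⟩ := small w h1
    refine ⟨_, _, exists_wit (R := R) act nact (tor j) hk, fun hd => ?_⟩
    have h2 := Int.le_of_dvd (abs_pos.2 (sub_ne_zero.2 hj)) ((dvd_abs _ _).2 hd)
    have h3 : p ≠ 4 := by
      rintro rfl
      exact absurd (Fact.out : Nat.Prime 4) (by norm_num)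
    omega

end Coords

end Cfsg.Agent.H967.ThRgd
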