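import Mathlib
import Cfsg.Agent.H967.ThRgd
import Cfsg.Agent.Nodes.RGDTwCoord
import Cfsg.Agent.Nodes.RGDTwComE6
import Cfsg.Agent.Nodes.RGDTwNode
import Cfsg.Agent.Nodes.RGDTwD4
import Cfsg.Agent.Nodes.RGDTwTab

/-!
# S4834: the groups `³D₄(q)`, `²E₆(q)` in defining characteristic (helper967)
-/

set_option autoImplicit false
set_option linter.unusedSectionVars false

namespace Cfsg.Agent.H967.ThTw

open CoxeterSystem Cfsg.Agent.ChevalleyStructure.CoxeterGeom Cfsg.Agent.Tits.Roots Cfsg.Agent.Tits.Core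
  Cfsg.Agent.Nodes.Reps Cfsg.Agent.Nodes.BNOf Cfsg.Agent.Nodes.StabComb Cfsg.Agent.Nodes.OppDec Cfsg.Agent.Nodes.Bruhat
  Cfsg.Agent.Nodes.RGDTwGen Cfsg.Agent.Nodes.RGDChev Cfsg.Agent.Nodes.RGDFold
  Cfsg.Agent.Nodes.RGDFoldSL Cfsg.Agent.Nodes.RGDTwCoord Cfsg.Agent.Nodes.NormX Cfsg.Agent.Nodes.LeviDec
  Cfsg.Agent.KFacts.RgdAut Cfsg.Agent.KFacts.RgdDiag Cfsg.Agent.KFacts.RgdRigid
open Cfsg.Lie Cfsg.Agent.ChevalleyStructure Cfsg.Agent.ChevalleyStructure.Elts Cfsg.Agent.H687 Cfsg.Agent.H967.ThRgd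

universe u

/-- The fixed field of `φ`. -/
def FF {K : Type u} [Field K] (φ : K →+* K) : Subfield K := RingHom.eqLocusField φ (RingHom.id K)

theorem mem_FF {K : Type u} [Field K] {φ : K →+* K} {a : K} : a ∈ FF φ ↔ φ a = a := Iff.rfl

/-- the first root of the orbit `j` -/
def jh {l m : ℕ} (J : Fin m → List (Fin l)) (j : Fin m) : ℕ := match J j with
  | [] => 0
  | i :: _ => i

/-- The finite checks. -/
structure Chk (D : ChevalleyDatum) {l m : ℕ} (M : CoxeterMatrix (Fin m)) (A : Fin m → Fin m → ℤ)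
    (J : Fin m → List (Fin l)) (O : List (List ℕ)) (dg : ℕ → ℕ → ℕ) (t : ℕ) : Prop where
  lt : t < D.nroots
  cl_t : cl D J O (V D J t) = [t]
  dom : ∀ i, 0 ≤ pairing A i (V D J t)
  high : ∀ o ∈ O, (∀ i, 0 ≤ V D J (o.headD 0) i) → (o.all fun s => comB D.nroots dg s t) = true
  len : ∀ o ∈ O, o.length = 1 → ∀ i, (cl D J O (Cfsg.Agent.Nodes.RGDFold.refl A i (V D J (o.headD 0)))).length = 1
  odd1 : ∃ j, D.cartan (jh J j) t % 2 = 1
  odd2 : ∀ o ∈ O, o.length = 1 → o.headD 0 ≠ t → V D J (o.headD 0) ≠ -V D J t →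
    ∃ j, (D.cartan (jh J j) t - D.cartan (jh J j) (o.headD 0)) % 2 = 1
  small : ∀ o ∈ O, o.length = 1 → o.headD 0 ≠ t →
    ∃ j, D.cartan (jh J j) t - D.cartan (jh J j) (o.headD 0) ≠ 0 ∧
      -4 < D.cartan (jh J j) t - D.cartan (jh J j) (o.headD 0) ∧
      D.cartan (jh J j) t - D.cartan (jh J j) (o.headD 0) < 4
  sym : ∀ σ : Equiv.Perm (Fin m), (∀ i j, M (σ i) (σ j) = M i j) →
    (∀ i, (cl D J O (sr (σ i))).length = (cl D J O (sr i)).length) → σ = 1

section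

variable {D : ChevalleyDatum} {l m : ℕ} {M' : CoxeterMatrix (Fin l)} {hp : IsType D l M'} {K : Type u} [Field K]
  {M : CoxeterMatrix (Fin m)} {A : Fin m → Fin m → ℤ} {J : Fin m → List (Fin l)} {L : List (List ℕ)}
  {σ : GL D.Idx K →* GL D.Idx K} {ρ ρ' : ℕ → ℕ} {f : ℕ → K → K} {G : Subgroup (GL D.Idx K)} {φ : K →+* K}
  {ε δ : ℕ → ℤ} {O : List (List ℕ)} {dg : ℕ → ℕ → ℕ}
  {W : Type*} [Group W] {cs : CoxeterSystem M W} {h : IsCartan M A} {t : ℕ}

/-- the class of a long root -/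
theorem len_one (TC : TwC hp K M A J L σ ρ ρ' f G φ ε δ O dg) (C : Chk D M A J O dg t) (w : W) :
    (cl D J O (rep cs h w (V D J t))).length = 1 := by
  have hV : IsRoot cs h (V D J t) :=
    (TC.FD.isRoot_iff hp.checked (fun i _ hr => wp_lt hp (J i) hr) _).2 ⟨t, C.lt, rfl⟩
  obtain ⟨ω, rfl⟩ := cs.wordProd_surjective w
  induction ω with
  | nil =>
    rw [wordProd_nil, map_one, Module.End.one_apply, C.cl_t]; rfl
  | cons i ω ih =>
    obtain ⟨ho, hh, -⟩ := TC.root (cs := cs) (h := h) (hV.act (cs.wordProd ω))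
    have := C.len _ ho ih i
    rw [hh] at this
    rwa [wordProd_cons, rep_mul_apply, rep_refl]

theorem ok_iff (TC : TwC hp K M A J L σ ρ ρ' f G φ ε δ O dg) (C : Chk D M A J O dg t) (w : W) {a : K} :
    Ok D J O φ (rep cs h w (V D J t)) a ↔ φ a = a := by
  unfold Ok
  rw [len_one TC C]
  rfl

end

section

variable {D : ChevalleyDatum} {l m : ℕ} {M' : CoxeterMatrix (Fin l)} {hp : IsType D l M'} {K : Type u} [Field K]
  {M : CoxeterMatrix (Fin m)} {A : Fin m → Fin m → ℤ} {J : Fin m → List (Fin l)} {L : List (List ℕ)}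
  {σ : GL D.Idx K →* GL D.Idx K} {ρ ρ' : ℕ → ℕ} {f : ℕ → K → K} {G : Subgroup (GL D.Idx K)} {φ : K →+* K}
  {ε δ : ℕ → ℤ} {O : List (List ℕ)} {dg : ℕ → ℕ → ℕ}
  {W : Type*} [Group W] {cs : CoxeterSystem M W} {h : IsCartan M A} {t : ℕ} [Finite K] {p : ℕ} [Fact p.Prime]
  [CharP K p]

/-- the root groups of the twisted group -/
abbrev XT (D : ChevalleyDatum) {l m : ℕ} {M' : CoxeterMatrix (Fin l)} (hp : IsType D l M') (K : Type u) [Field K]
    (J : Fin m → List (Fin l)) (σ : GL D.Idx K →* GL D.Idx K) (G : Subgroup (GL D.Idx K)) (z : Fin m → ℤ) :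
    Subgroup ↥G := (R D hp K J σ z).subgroupOf G

include p in
theorem B_le (TC : TwC hp K M A J L σ ρ ρ' f G φ ε δ O dg) (C : Chk D M A J O dg t)
    (hV : IsRoot cs h (V D J t)) :
    RGD.B cs h ((D.diagonalSubgroup K ⊓ G).subgroupOf G) (XT D hp K J σ G) ≤
      Subgroup.normalizer (XT D hp K J σ G (V D J t) : Set ↥G) := by
  have R := Cfsg.Agent.Nodes.RGDFold.rgd cs h TC.FD TC.FG p
  refine sup_le (fun s hs => ?_) (RGD.Sup_le fun x hx => ?_)
  · rw [mem_normalizer_iff_cj]; exact R.tor _ hV s hs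
  · obtain ⟨hx, h0⟩ := hx
    have hcomm : ∀ u ∈ XT D hp K J σ G x, ∀ v ∈ XT D hp K J σ G (V D J t), u * v = v * u := by
      intro u hu v hv
      obtain ⟨a, ha, rfl⟩ := (TC.mem_X cs h p hx u).1 hu
      obtain ⟨b, hb, rfl⟩ := (TC.mem_X cs h p hV v).1 hv
      apply Subtype.ext
      rw [Subgroup.coe_mul, Subgroup.coe_mul, TC.coe_x cs h p hx ha, TC.coe_x cs h p hV hb]
      obtain ⟨ho, hh, -⟩ := TC.root hx
      refine TC.commute_Y ?_ a b
      rw [C.cl_t]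
      have h1 := C.high _ ho (by rw [hh]; exact h0)
      rw [List.all_eq_true] at h1 ⊢
      intro s hs
      rw [List.all_cons, List.all_nil, Bool.and_true]
      exact h1 s hs
    intro u hu
    rw [mem_normalizer_iff_cj]
    ext v
    rw [mem_cj]
    constructor
    · intro hv
      have h1 := hcomm u hu _ hv
      have h2 : v = u * (u⁻¹ * v * u) * u⁻¹ := by group
      rw [h2, h1]
      have h3 : u⁻¹ * v * u * u * u⁻¹ = u⁻¹ * v * u := by group
      rw [h3]; exact hv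
    · intro hv
      have h1 := hcomm u hu v hv
      have h2 : u⁻¹ * v * u = v := by rw [mul_assoc, ← h1, inv_mul_cancel_left]
      rw [h2]; exact hv

include p in
theorem card_X (TC : TwC hp K M A J L σ ρ ρ' f G φ ε δ O dg) {z : Fin m → ℤ} (hz : IsRoot cs h z) :
    Nat.card (XT D hp K J σ G z) = Nat.card {a : K // Ok D J O φ z a} := by
  symm
  refine Nat.card_congr (Equiv.ofBijective (fun a => ⟨Cfsg.Agent.Nodes.RGDTwCoord.x hp J φ δ O G z a.1,
    (TC.mem_X cs h p hz _).2 ⟨a.1, a.2, rfl⟩⟩) ⟨?_, ?_⟩)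
  · intro a b hab
    exact Subtype.ext (TC.x_inj cs h p hz a.2 b.2 (congrArg Subtype.val hab))
  · rintro ⟨u, hu⟩
    obtain ⟨a, ha, rfl⟩ := (TC.mem_X cs h p hz u).1 hu
    exact ⟨⟨a, ha⟩, rfl⟩

/-- **The criterion for the twisted groups.** -/
theorem good_tw (TC : TwC hp K M A J L σ ρ ρ' f G φ ε δ O dg) (C : Chk D M A J O dg t) (h3 : 3 < p)
    [IsSimpleGroup ↥G] (hna : ∃ a b : ↥G, a * b ≠ b * a) (cs : CoxeterSystem M W) (h : IsCartan M A) [Finite W]
    {rp : Fin m → ℕ} {rest : Fin m → List ℕ} (NO : ∀ i, NodeOK D J L ρ i (rp i) (rest i))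
    (hf : ∀ i, ∀ s ∈ rp i :: rest i, ∀ t, f s t = φ t)
    (hsym : ∀ i j, Nat.card {a : K // Ok D J O φ (sr i) a} = Nat.card {a : K // Ok D J O φ (sr j) a} →
      (cl D J O (sr i)).length = (cl D J O (sr j)).length)
    (hN : ∀ j (d : K), φ d = d → d ≠ 0 → ∃ c : K, c ≠ 0 ∧ φ^[(rest j).length + 1] c = c ∧
      ∀ s, [s] ∈ O → wt D φ (J j) s c = d ^ D.cartan (jh J j) s) : Good p ↥G := by
  have hV : IsRoot cs h (V D J t) :=
    (TC.FD.isRoot_iff hp.checked (fun i _ hr => wp_lt hp (J i) hr) _).2 ⟨t, C.lt, rfl⟩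
  have R := Cfsg.Agent.Nodes.RGDFold.rgd cs h TC.FD TC.FG p
  have hdom : Dom A (V D J t) := C.dom
  have hG : GG cs h ((D.diagonalSubgroup K ⊓ G).subgroupOf G) (XT D hp K J σ G) = ⊤ :=
    GG_eq_top (by
      have := Cfsg.Agent.Nodes.RGDFold.G1_eq_top cs h TC.FD TC.FG p
      exact this)
  have L' : Long R (V D J t) (XT D hp K J σ G (V D J t)) := long_X R hV hdom (B_le (p := p) TC C hV)
  have hchar : CharP (FF φ) p := inferInstance
  have hok : ∀ (w : W) (a : FF φ), Ok D J O φ (rep cs h w (V D J t)) (a : K) := fun w a =>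
    (ok_iff TC C w).2 (mem_FF.1 a.2)
  have hok1 : ∀ (a : FF φ), Ok D J O φ (V D J t) (a : K) := fun a => by
    have := hok 1 a
    rwa [map_one, Module.End.one_apply] at this
  refine good_coords (F := FF φ) (x := fun z a => Cfsg.Agent.Nodes.RGDTwCoord.x hp J φ δ O G z (a : K)) hna h3 R hG L'
    ?_ ?_ ?_ ?_ ?_ ?_ (J := Fin m) (e := fun j z => D.cartan (jh J j) ((cl D J O z).headD 0)) ?_ ?_ ?_ ?_
  · -- symmetry
    intro β τ hβ x
    have hτ := hβ.matrix R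
    have hlen : ∀ i, (cl D J O (sr (τ i))).length = (cl D J O (sr i)).length := by
      intro i
      apply hsym
      rw [← card_X (p := p) TC (isRoot_sr cs h (τ i)), ← card_X (p := p) TC (isRoot_sr cs h i)]
      refine (Nat.card_congr (β.toEquiv.subtypeEquiv fun x => ?_)).symm
      exact (hβ.pos i x).symm
    have h1 := C.sym τ hτ hlen
    subst h1
    exact hβ.root_comp R (fun _ _ => rfl) hV x
  · intro a b
    exact TC.x_add cs h p hV (hok1 a) (hok1 b)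
  · intro a b hab
    exact Subtype.ext (TC.x_inj cs h p hV (hok1 a) (hok1 b) hab)
  · intro y
    rw [TC.mem_X cs h p hV]
    constructor
    · rintro ⟨a, ha, rfl⟩
      have ha' : φ a = a := by
        have := ok_iff (cs := cs) (h := h) TC C 1 (a := a)
        rw [map_one, Module.End.one_apply] at this
        exact this.1 ha
      exact ⟨⟨a, ha'⟩, rfl⟩
    · rintro ⟨a, rfl⟩
      exact ⟨a, hok1 a, rfl⟩
  · intro s hs w
    obtain ⟨χ, h1, h2, h4⟩ := TC.tor_x cs h p hs (hV.act w)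
    refine ⟨⟨χ, (ok_iff TC C w).1 h2⟩, fun h0 => h1 (congrArg Subtype.val h0), fun a => ?_⟩
    exact h4 a (hok w a)
  · intro i w
    obtain ⟨η, h1, h2⟩ := TC.conj_x cs h p i (hV.act w)
    refine ⟨⟨η, h1.fix φ⟩, fun h0 => h1.ne_zero (congrArg Subtype.val h0), fun a => ?_⟩
    obtain ⟨h4, h5⟩ := h2 a (hok w a)
    have h6 : ∀ k : ℕ, φ^[k] (a : K) = a := by
      intro k
      induction k with
      | zero => rfl
      | succ k ih => rw [Function.iterate_succ_apply', ih]; exact mem_FF.1 a.2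
    rw [h6] at h5
    rw [rep_mul_apply]
    exact h5
  · intro j d
    obtain ⟨c, hc0, hcφ, hc⟩ := hN j (d : FF φ) (mem_FF.1 (d : FF φ).2) (fun h0 => d.ne_zero (Subtype.ext h0))
    obtain ⟨h1, h2⟩ := TC.hI_mem (NO j) (hf j) hc0 hcφ
    refine ⟨⟨hI hp φ (J j) c, h2⟩, ⟨h1, h2⟩, fun w a => ?_⟩
    have hz := hV.act (h := h) w
    obtain ⟨h4, h5⟩ := TC.hI_Y (NO j) (hf j) hc0 hcφ hz (hok w a)
    obtain ⟨ho, hh, -⟩ := TC.root hz
    obtain ⟨o', e⟩ := TC.head hz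
    have hlen := len_one (cs := cs) (h := h) TC C w
    rw [e, List.length_cons] at hlen
    have ho' : o' = [] := List.length_eq_zero_iff.1 (by omega)
    rw [ho'] at e
    rw [e] at ho
    have hw := hc _ ho
    rw [hw] at h4 h5
    have hval : ((((d ^ D.cartan (jh J j) ((cl D J O (rep cs h w (V D J t))).headD 0) : (FF φ)ˣ) : FF φ) * a : FF φ) : K) =
        (((d : FF φ) : K)) ^ D.cartan (jh J j) ((cl D J O (rep cs h w (V D J t))).headD 0) * (a : K) := by
      rw [Units.val_zpow_eq_zpow_val]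
      push_cast
      rfl
    apply Subtype.ext
    rw [Subgroup.coe_mul, Subgroup.coe_mul, Subgroup.coe_inv, TC.coe_x cs h p hz (hok w a),
      TC.coe_x cs h p hz (hok w _), hval]
    exact h5
  · obtain ⟨j, hj⟩ := C.odd1
    refine ⟨j, ?_⟩
    show Odd (D.cartan (jh J j) ((cl D J O (V D J t)).headD 0))
    rw [C.cl_t, Int.odd_iff]
    exact hj
  · intro w h1 h2
    obtain ⟨ho, hh, -⟩ := TC.root (hV.act (h := h) w)
    obtain ⟨j, hj⟩ := C.odd2 _ ho (len_one TC C w) (fun e => h1 (by rw [← hh, e])) (fun e => h2 (by rw [← hh, e]))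
    refine ⟨j, ?_⟩
    show Odd (D.cartan (jh J j) ((cl D J O (V D J t)).headD 0) - D.cartan (jh J j) _)
    rw [C.cl_t, Int.odd_iff]
    exact hj
  · intro w h1
    obtain ⟨ho, hh, -⟩ := TC.root (hV.act (h := h) w)
    obtain ⟨j, hj, hj1, hj2⟩ := C.small _ ho (len_one TC C w) (fun e => h1 (by rw [← hh, e]))
    refine ⟨j, ?_⟩
    show D.cartan (jh J j) ((cl D J O (V D J t)).headD 0) ≠ D.cartan (jh J j) _ ∧
      |D.cartan (jh J j) ((cl D J O (V D J t)).headD 0) - D.cartan (jh J j) _| < 4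
    rw [C.cl_t]
    exact ⟨fun e => hj (by rw [List.headD_cons] at e; rw [e, sub_self]), abs_lt.2 ⟨hj1, hj2⟩⟩

end

end Cfsg.Agent.H967.ThTw
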