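import Mathlib
import Cfsg.Agent.H967.ThTwTab
import Cfsg.Agent.S1070
import Cfsg.Agent.S1071

/-!
# S4834: `Good p` for `³D₄(q)`, `²E₆(q)`, `p ∣ q` (helper967)
-/

set_option autoImplicit false
set_option linter.unusedSectionVars false

namespace Cfsg.Agent.H967.ThTw

open CoxeterSystem Cfsg.Lie Cfsg.Agent.ChevalleyStructure.CoxeterGeom Cfsg.Agent.Tits.Roots
  Cfsg.Agent.Nodes.RGDTwCoord
  Cfsg.Agent.Nodes.RGDChev Cfsg.Agent.Nodes.RGDFold Cfsg.Agent.Nodes.RGDTwTab Cfsg.Agent.ChevalleyStructure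
  Cfsg.Agent.Nodes.RGDFoldSL Cfsg.Agent.H687
open Cfsg.Agent.Nodes

universe u

/-- the norm of finite fields is surjective -/
theorem exists_norm {K : Type u} [Field K] [Fintype K] {q k : ℕ} (hq : 1 < q) (hK : Fintype.card K = q ^ k)
    {d : K} (hd0 : d ≠ 0) (hd : d ^ q = d) : ∃ c : K, c ≠ 0 ∧ c ^ (∑ i ∈ Finset.range k, q ^ i) = d := by
  obtain ⟨g, hg⟩ := IsCyclic.exists_generator (α := Kˣ)
  have hS : (∑ i ∈ Finset.range k, q ^ i) * (q - 1) = q ^ k - 1 := by
    have := Nat.geomSum_eq (show 2 ≤ q from hq) k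
    rw [this]
    exact Nat.div_mul_cancel (by simpa using Nat.sub_dvd_pow_sub_pow q 1 k)
  have hord : orderOf g = (∑ i ∈ Finset.range k, q ^ i) * (q - 1) := by
    rw [orderOf_eq_card_of_forall_mem_zpowers hg, Nat.card_units, Nat.card_eq_fintype_card, hK, hS]
  obtain ⟨a, ha⟩ := (mem_powers_iff_mem_zpowers.2 (hg (Units.mk0 d hd0)) : Units.mk0 d hd0 ∈ Submonoid.powers g)
  have ha' : g ^ a = Units.mk0 d hd0 := ha
  have h1 : (Units.mk0 d hd0) ^ (q - 1) = 1 := by
    apply Units.ext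
    rw [Units.val_pow_eq_pow_val, Units.val_mk0, Units.val_one]
    have h2 : d ^ (q - 1) * d = 1 * d := by
      rw [← pow_succ, Nat.sub_add_cancel hq.le, hd, one_mul]
    exact mul_right_cancel₀ hd0 h2
  rw [← ha', ← pow_mul] at h1
  have h2 := orderOf_dvd_of_pow_eq_one h1
  rw [hord] at h2
  obtain ⟨b, hb⟩ := Nat.dvd_of_mul_dvd_mul_right (by omega) h2
  refine ⟨((g ^ b : Kˣ) : K), Units.ne_zero _, ?_⟩
  have h3 : (g ^ b) ^ (∑ i ∈ Finset.range k, q ^ i) = Units.mk0 d hd0 := by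
    rw [← pow_mul, ← ha', hb, mul_comm]
  have := congrArg (Units.val) h3
  rwa [Units.val_pow_eq_pow_val, Units.val_mk0] at this

theorem primePow_of_card {K : Type u} [Field K] [Fintype K] {p : ℕ} [hp : Fact p.Prime] [CharP K p] {q k : ℕ} (hk : k ≠ 0)
    (hK : Fintype.card K = q ^ k) : IsPrimePow q ∧ 1 < q := by
  obtain ⟨n, -, hn⟩ := FiniteField.card K p
  have h1 : q ∣ p ^ (n : ℕ) := by
    rw [← hn, hK]
    exact dvd_pow_self q hk
  obtain ⟨m, -, rfl⟩ := (Nat.dvd_prime_pow hp.out).1 h1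
  have hm : m ≠ 0 := by
    rintro rfl
    rw [pow_zero, one_pow] at hK
    have := Fintype.one_lt_card (α := K)
    omega
  exact ⟨hp.out.isPrimePow.pow hm, Nat.one_lt_pow hm hp.out.one_lt⟩

/-- the fixed field of `φ` is not everything -/
theorem card_ne {K : Type u} [Field K] [Fintype K] {φ : K →+* K} {q k : ℕ} (hq : 1 < q) (hk : 1 < k)
    (hφ : ∀ x, φ x = x ^ q) (hK : Fintype.card K = q ^ k) (hφk : ∀ x, φ^[k] x = x) :
    Nat.card {a : K // φ^[1] a = a} ≠ Nat.card {a : K // φ^[k] a = a} := by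
  intro h
  have h1 : Nat.card {a : K // φ^[k] a = a} = q ^ k := by
    rw [Nat.card_congr (Equiv.subtypeUnivEquiv hφk), Nat.card_eq_fintype_card, hK]
  rw [h1] at h
  have h2 : Nat.card {a : K // φ^[1] a = a} ≤ q := by
    classical
    have h3 : ∀ a : {a : K // φ^[1] a = a}, (a : K) ∈ (Polynomial.X ^ q - Polynomial.X : Polynomial K).roots.toFinset := by
      rintro ⟨a, ha⟩
      rw [Multiset.mem_toFinset, Polynomial.mem_roots (FiniteField.X_pow_card_sub_X_ne_zero K hq)]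
      simp only [Polynomial.IsRoot.def, Polynomial.eval_sub, Polynomial.eval_pow, Polynomial.eval_X]
      rw [← hφ, sub_eq_zero]
      exact ha
    calc Nat.card {a : K // φ^[1] a = a} ≤ Nat.card ((Polynomial.X ^ q - Polynomial.X : Polynomial K).roots.toFinset) :=
          Nat.card_le_card_of_injective (fun a => ⟨a, h3 a⟩) (fun a b hab => Subtype.ext (by simpa using hab))
      _ = (Polynomial.X ^ q - Polynomial.X : Polynomial K).roots.toFinset.card := by
          rw [Nat.card_eq_fintype_card, Fintype.card_coe]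
      _ ≤ Multiset.card (Polynomial.X ^ q - Polynomial.X : Polynomial K).roots := Multiset.toFinset_card_le _
      _ ≤ (Polynomial.X ^ q - Polynomial.X : Polynomial K).natDegree := Polynomial.card_roots' _
      _ = q := FiniteField.X_pow_card_sub_X_natDegree_eq K hq
  have h3 : q ^ 1 < q ^ k := Nat.pow_lt_pow_right hq hk
  rw [pow_one] at h3
  omega

section D4

open RGDTwD4

variable {K : Type u} [Field K] {q : ℕ} {φ : K →+* K}

theorem twC4 (hφ : ∀ x, φ x = x ^ q) (hle : twistedD4 K q ≤ D4Fixed.fix φ) :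
    TwC RGDTwD4.hp K CoxeterMatrix.G₂ RGDTwD4.A RGDTwD4.J RGDTwD4.L (D4Fixed.sig φ) RGDTwD4.rho
      (fun r => RGDTwD4.rho (RGDTwD4.rho r)) (fun r t => ((RGDTwD4.eps r : ℤ) : K) * φ t) (twistedD4 K q) φ
      RGDTwD4.eps dl4 O4 dgD4 where
  FD := RGDTwD4.foldData
  FG := RGDTwD4.foldGrp hφ hle
  CD := clData4
  sig r hr t := by
    have h24 : r < 24 := hr
    rw [RGDTwD4.xG_eq]
    exact D4U.sig_xG φ h24 (by rw [rho, dif_pos h24]) (by rw [eps, dif_pos h24]) t

theorem wt_of_eq {D : ChevalleyDatum} {l : ℕ} {φ : K →+* K} {s : ℕ} {e : ℤ} : ∀ (o : List (Fin l)) (c : K), c ≠ 0 →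
    (∀ j ∈ o, D.cartan j s = e) → wt D φ o s c = (∏ i ∈ Finset.range o.length, φ^[i] c) ^ e := by
  intro o
  induction o with
  | nil =>
    intro c hc h
    rw [List.length_nil, Finset.range_zero, Finset.prod_empty, one_zpow]
    rfl
  | cons j o ih =>
    intro c hc h
    rw [List.length_cons, Finset.prod_range_succ', mul_comm, mul_zpow]
    show c ^ D.cartan j s * wt D φ o s (φ c) = _
    rw [ih (φ c) ((map_ne_zero φ).2 hc) (fun j hj => h j (List.mem_cons_of_mem _ hj)), h j List.mem_cons_self]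
    rfl

theorem prod_iterate {φ : K →+* K} (hφ : ∀ x, φ x = x ^ q) (k : ℕ) (c : K) :
    ∏ i ∈ Finset.range k, φ^[i] c = c ^ (∑ i ∈ Finset.range k, q ^ i) := by
  have h1 : ∀ i, φ^[i] c = c ^ q ^ i := by
    intro i
    induction i with
    | zero => simp
    | succ i ih => rw [Function.iterate_succ_apply', ih, hφ, ← pow_mul, pow_succ]
  rw [← Finset.prod_pow_eq_pow_sum]
  exact Finset.prod_congr rfl fun i _ => h1 i

theorem iterate_eq_self [Fintype K] {φ : K →+* K} (hφ : ∀ x, φ x = x ^ q) {k : ℕ} (hK : Fintype.card K = q ^ k) (c : K) :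
    φ^[k] c = c := by
  have h1 : ∀ i, φ^[i] c = c ^ q ^ i := by
    intro i
    induction i with
    | zero => simp
    | succ i ih => rw [Function.iterate_succ_apply', ih, hφ, ← pow_mul, pow_succ]
  rw [h1, ← hK, FiniteField.pow_card]

/-- **Row `³D₄(q)`, `p ∣ q`.** -/
theorem good_twD4 {p : ℕ} [Fact p.Prime] (hp : 3 < p) [Fintype K] [CharP K p] {q : ℕ}
    (hK : Fintype.card K = q ^ 3) : Good p ↥(Cfsg.Lie.twistedD4 K q) := by
  obtain ⟨hq, hq1⟩ := primePow_of_card (p := p) (by norm_num) hK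
  obtain ⟨φ, hφ⟩ := D4Fixed.exists_frob hq hK
  obtain ⟨hs, hna⟩ := S1071.result (K := K) hq hK
  have hna' : ∃ a b : ↥(Cfsg.Lie.twistedD4 K q), a * b ≠ b * a := by
    by_contra hcon
    push Not at hcon
    exact hna ⟨⟨hcon⟩⟩
  have := RGDFold.finite_W (hp := RGDTwD4.hp) CoxeterMatrix.G₂.toCoxeterSystem RGDTwD4.isCartan RGDTwD4.foldData
  have hl : ∀ i : Fin 2, (cl chevD4 RGDTwD4.J O4 (sr i)).length = (![1, 3] : Fin 2 → ℕ) i := by decide +kernel
  have hJ : ∀ i : Fin 2, (RGDTwD4.J i).length = (RGDTwNode.D4.rest i).length + 1 := by decide +kernel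
  have hJ' : ∀ i : Fin 2, (RGDTwD4.J i).length = 1 ∨ (RGDTwD4.J i).length = 3 := by decide +kernel
  have hc : ∀ o ∈ O4, o.length = 1 → ∀ j : Fin 2, ∀ i ∈ RGDTwD4.J j,
      chevD4.cartan i (o.headD 0) = chevD4.cartan (jh RGDTwD4.J j) (o.headD 0) := by decide +kernel
  refine good_tw (p := p) (twC4 hφ (D4Fixed.twisted_le_fix hK hφ)) chk4 hp hna' CoxeterMatrix.G₂.toCoxeterSystem
    RGDTwD4.isCartan RGDTwNode.D4.nodeOK ?_ ?_ ?_
  · intro i s hs t
    show ((RGDTwD4.eps s : ℤ) : K) * φ t = φ t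
    rw [RGDTwNode.D4.eps_one i s hs, Int.cast_one, one_mul]
  · intro i j hij
    have hne := card_ne (K := K) (φ := φ) hq1 (k := 3) (by norm_num) hφ hK (iterate_eq_self hφ hK)
    unfold Ok at hij
    rw [hl, hl] at hij ⊢
    fin_cases i <;> fin_cases j
    · rfl
    · exact absurd hij hne
    · exact absurd hij.symm hne
    · rfl
  · intro j d hd hd0
    rcases hJ' j with h1 | h1
    · refine ⟨d, hd0, ?_, fun s hs => ?_⟩
      · rw [← hJ, h1]; exact hd
      · have h2 := wt_of_eq (φ := φ) _ d hd0 (hc [s] hs rfl j)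
        rw [h1, Finset.prod_range_one] at h2
        exact h2
    · obtain ⟨c, hc0, hcd⟩ := exists_norm hq1 hK hd0 (by rw [← hφ]; exact hd)
      refine ⟨c, hc0, ?_, fun s hs => ?_⟩
      · rw [← hJ, h1]; exact iterate_eq_self hφ hK c
      · have h2 := wt_of_eq (φ := φ) _ c hc0 (hc [s] hs rfl j)
        rw [h1, prod_iterate hφ, hcd] at h2
        exact h2

end D4

section E6

variable {K : Type u} [Field K]

/-- **Row `²E₆(q)`, `p ∣ q`.** -/
theorem good_twE6 {p : ℕ} [Fact p.Prime] (hp : 3 < p) [Fintype K] [CharP K p] {q : ℕ}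
    (hK : Fintype.card K = q ^ 2) : Good p ↥(Cfsg.Lie.twistedE6 K q) := by
  obtain ⟨hq, hq1⟩ := primePow_of_card (p := p) (by norm_num) hK
  obtain ⟨φ, hφ, hqq⟩ := TwE6Basic.exists_frob hq hK
  obtain ⟨hs, hna⟩ := S1070.result (K := K) hq hK
  have hna' : ∃ a b : ↥(Cfsg.Lie.twistedE6 K q), a * b ≠ b * a := by
    by_contra hcon
    push Not at hcon
    exact hna ⟨⟨hcon⟩⟩
  have := RGDFold.finite_W (hp := RGDTwE6.hp) CoxeterMatrix.F₄.toCoxeterSystem RGDTwE6.isCartan RGDTwE6.foldData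
  have hl : ∀ i : Fin 4, (cl chevE6 RGDTwE6.J RGDTwCoordE6.O (sr i)).length = (![1, 1, 2, 2] : Fin 4 → ℕ) i := by
    decide +kernel
  have hJ : ∀ i : Fin 4, (RGDTwE6.J i).length = (RGDTwNode.E6.rest i).length + 1 := by decide +kernel
  have hJ' : ∀ i : Fin 4, (RGDTwE6.J i).length = 1 ∨ (RGDTwE6.J i).length = 2 := by decide +kernel
  refine good_tw (p := p) (RGDTwComE6.twC hφ hqq) chk6 hp hna' CoxeterMatrix.F₄.toCoxeterSystem
    RGDTwE6.isCartan RGDTwNode.E6.nodeOK ?_ ?_ ?_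
  · intro i s hs t
    show ((TwistedE6Sigma.eps s : ℤ) : K) * φ t = φ t
    rw [RGDTwNode.E6.eps_one i s hs, Int.cast_one, one_mul]
  · intro i j hij
    have hne := card_ne (K := K) (φ := φ) hq1 (k := 2) (by norm_num) hφ hK (iterate_eq_self hφ hK)
    unfold Ok at hij
    rw [hl, hl] at hij ⊢
    fin_cases i <;> fin_cases j <;> first | rfl | exact absurd hij hne | exact absurd hij.symm hne
  · intro j d hd hd0
    rcases hJ' j with h1 | h1
    · refine ⟨d, hd0, ?_, fun s hs => ?_⟩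
      · rw [← hJ, h1]; exact hd
      · have h2 := wt_of_eq (φ := φ) _ d hd0 (cart6 [s] hs rfl j)
        rw [h1, Finset.prod_range_one] at h2
        exact h2
    · obtain ⟨c, hc0, hcd⟩ := exists_norm hq1 hK hd0 (by rw [← hφ]; exact hd)
      refine ⟨c, hc0, ?_, fun s hs => ?_⟩
      · rw [← hJ, h1]; exact iterate_eq_self hφ hK c
      · have h2 := wt_of_eq (φ := φ) _ c hc0 (cart6 [s] hs rfl j)
        rw [h1, prod_iterate hφ, hcd] at h2
        exact h2

end E6

end Cfsg.Agent.H967.ThTw
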