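import Mathlib
import Cfsg.Agent.LieRecognition.CoxClass

/-!
# Diagram automorphisms of `r`-power order, `r` not dividing `|W|`, are trivial

`diag` : task T4 of helper255 (for S2967).
-/

set_option autoImplicit false

namespace Cfsg.Agent.H967.DiagAut

open Finset Cfsg.Agent.LieRecognition.CoxForm Cfsg.Agent.LieRecognition.CoxExcl Cfsg.Agent.LieRecognition.CoxClass

section

variable {B : Type*} [Fintype B] [DecidableEq B] {M : CoxeterMatrix B} {W : Type*} [Group W] [Finite W]
  (cs : CoxeterSystem M W)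

include cs in
theorem two_le {a b : B} (h : a ≠ b) : 2 ≤ M a b := by
  have h0 := ne_zero_of_finite cs a b
  have h1 := M.off_diagonal a b h
  omega

include cs in
/-- a fixed vertex has no moved neighbour -/
theorem fixed_adj (hconn : ∀ J : Set B, J.Nonempty → Jᶜ.Nonempty → ∃ a ∈ J, ∃ b ∈ Jᶜ, M a b ≠ 2)
    (τ : Equiv.Perm B) (hτ : ∀ i j, M (τ i) (τ j) = M i j) {r : ℕ} (hr : r.Prime) (hrW : ¬ r ∣ Nat.card W)
    (hr2 : r ≠ 2) (hk : τ ^ r = 1) {f b : B} (hf : τ f = f) (hb : τ b ≠ b) : M f b = 2 := by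
  by_contra hne
  have hfb : f ≠ b := by rintro rfl; exact hb hf
  have hpos := q_pos cs hconn
  have hper : Function.minimalPeriod τ b = r := by
    have h1 : Function.IsPeriodicPt τ r b := by
      show (τ^[r]) b = b
      rw [← Equiv.Perm.coe_pow, hk]
      rfl
    rcases (Nat.dvd_prime hr).1 h1.minimalPeriod_dvd with h2 | h2
    · exact absurd (Function.minimalPeriod_eq_one_iff_isFixedPt.1 h2) hb
    · exact h2
  have hinj : ∀ i < r, ∀ j < r, (τ ^ i) b = (τ ^ j) b → i = j := by
    intro i hi j hj hij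
    have h1 := Function.iterate_injOn_Iio_minimalPeriod (f := τ) (x := b)
    rw [hper] at h1
    refine h1 hi hj ?_
    simpa only [Equiv.Perm.coe_pow] using hij
  have hpowf : ∀ i : ℕ, (τ ^ i) f = f := by
    intro i
    induction i with
    | zero => rfl
    | succ i ih => rw [pow_succ', Equiv.Perm.mul_apply, ih, hf]
  have hMp : ∀ (i : ℕ) (x y : B), M ((τ ^ i) x) ((τ ^ i) y) = M x y := by
    intro i x y
    induction i with
    | zero => rfl
    | succ i ih => rw [pow_succ', Equiv.Perm.mul_apply, Equiv.Perm.mul_apply, hτ, ih]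
  have hK : ∀ i : ℕ, K M f ((τ ^ i) b) = K M f b := by
    intro i
    have h1 : M f ((τ ^ i) b) = M f b := by
      have h2 := hMp i f b
      rwa [hpowf] at h2
    simp only [K, h1]
  set J : B → ℝ := ∑ i ∈ range r, bs ((τ ^ i) b) with hJ
  have hx : (2 : ℝ) • bs f + J ≠ 0 := by
    intro h
    have h1 := congrFun h f
    simp only [hJ, Pi.add_apply, Pi.smul_apply, smul_eq_mul, Finset.sum_apply, Pi.zero_apply] at h1
    have h2 : 0 ≤ ∑ i ∈ range r, bs ((τ ^ i) b) f := Finset.sum_nonneg fun i _ => bs_nonneg _ _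
    have h3 : bs f f = 1 := by simp [bs]
    rw [h3] at h1
    linarith
  have hq := hpos _ hx
  have hfJ : bf M (bs f) J = r * K M f b := by
    rw [bf_comm, hJ, bf_sum_left]
    simp only [bf_bs_bs, K_symm M _ f, hK]
    rw [Finset.sum_const, card_range, nsmul_eq_mul]
  have hJJ : bf M J J ≤ r := by
    rw [hJ, bf_sum_left]
    have h1 : ∀ i ∈ range r, bf M (bs ((τ ^ i) b)) (∑ j ∈ range r, bs ((τ ^ j) b)) ≤ 1 := by
      intro i hi
      rw [bf_comm, bf_sum_left]
      simp only [bf_bs_bs]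
      rw [← Finset.add_sum_erase _ _ hi, K_self]
      have h2 : ∑ j ∈ (range r).erase i, K M ((τ ^ j) b) ((τ ^ i) b) ≤ 0 := by
        apply Finset.sum_nonpos
        intro j hj
        rw [mem_erase, mem_range] at hj
        refine K_nonpos M (two_le cs fun h => hj.1 ?_)
        exact hinj j hj.2 i (mem_range.1 hi) h
      linarith
    calc _ ≤ ∑ i ∈ range r, (1 : ℝ) := Finset.sum_le_sum h1
      _ = r := by simp
  rw [← bf_self, bf_add_left, bf_add_right, bf_add_right, bf_smul_left, bf_smul_left, bf_smul_right, bf_bs_bs, K_self,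
    bf_smul_right, bf_comm M J (bs f), hfJ] at hq
  have h3M : 3 ≤ M f b := by
    have := two_le cs hfb
    omega
  rcases Nat.lt_or_ge r 5 with h5 | h5
  · have hr3 : r = 3 := by
      have h1 := hr.two_le
      have h4 : r ≠ 4 := by rintro rfl; exact absurd hr (by decide)
      omega
    subst hr3
    have h4 : 4 ≤ M f b := by
      by_contra h4
      have h6 : M f b = 3 := by omega
      refine hrW ?_
      have h7 := orderOf_eq cs f b
      rw [h6] at h7
      exact h7 ▸ orderOf_dvd_natCard _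
    have h8 := K_le_four M h4
    have h9 : (1.4 : ℝ) < Real.sqrt 2 := by
      rw [Real.lt_sqrt (by norm_num)]
      norm_num
    push_cast at hq hJJ
    nlinarith
  · have h8 := K_le_three M h3M
    have h9 : (5 : ℝ) ≤ r := by exact_mod_cast h5
    nlinarith

include cs in
theorem diag_prime (hconn : ∀ J : Set B, J.Nonempty → Jᶜ.Nonempty → ∃ a ∈ J, ∃ b ∈ Jᶜ, M a b ≠ 2)
    (τ : Equiv.Perm B) (hτ : ∀ i j, M (τ i) (τ j) = M i j) {r : ℕ} (hr : r.Prime) (hrW : ¬ r ∣ Nat.card W)
    (hk : τ ^ r = 1) : τ = 1 := by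
  classical
  by_contra hne
  obtain ⟨b, hb⟩ : ∃ b, τ b ≠ b := by
    by_contra hcon
    push Not at hcon
    exact hne (Equiv.ext hcon)
  have hr2 : r ≠ 2 := by
    rintro rfl
    have h1 : orderOf (cs.simple b) = 2 := by
      refine orderOf_eq_prime (by rw [pow_two, cs.simple_mul_simple_self]) fun h => ?_
      have h2 := cs.length_simple b
      rw [h, cs.length_one] at h2
      exact zero_ne_one h2
    exact hrW (h1 ▸ orderOf_dvd_natCard _)
  have hodd : ¬ r ∣ 2 := fun h => hr2 ((Nat.prime_dvd_prime_iff_eq hr Nat.prime_two).1 h)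
  by_cases hfix : ∃ f, τ f = f
  · obtain ⟨f, hf⟩ := hfix
    obtain ⟨a, ha, c, hc, hac⟩ := hconn {x | τ x = x} ⟨f, hf⟩ ⟨b, hb⟩
    exact hac (fixed_adj cs hconn τ hτ hr hrW hr2 hk ha hc)
  -- no fixed vertex
  have : Fact r.Prime := ⟨hr⟩
  have hrn : r ∣ Fintype.card B := by
    by_contra h
    exact hfix (Equiv.Perm.exists_fixed_point_of_prime (n := 1) h (σ := τ) (by rw [pow_one]; exact hk))
  let G : SimpleGraph B :=
    { Adj := fun x y => M x y ≠ 2 ∧ x ≠ y
      symm := ⟨fun x y h => ⟨by rw [M.symmetric]; exact h.1, h.2.symm⟩⟩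
      loopless := ⟨fun x h => h.2 rfl⟩ }
  have hconnG : G.Connected := by
    have : Nonempty B := ⟨b⟩
    refine ⟨fun x y => ?_⟩
    by_contra hxy
    obtain ⟨a, ha, c, hc, hac⟩ := hconn {z | G.Reachable x z} ⟨x, SimpleGraph.Reachable.refl x⟩ ⟨y, hxy⟩
    have h1 : a ≠ c := by
      rintro rfl
      exact hc ha
    refine hc (SimpleGraph.Reachable.trans ha (SimpleGraph.Adj.reachable ?_))
    exact ⟨hac, h1⟩
  let D := {p : B × B // G.Adj p.1 p.2}
  have hD1 : Fintype.card D = 2 * G.edgeFinset.card := by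
    rw [← G.dart_card_eq_twice_card_edges]
    exact Fintype.card_congr ⟨fun p => ⟨p.1, p.2⟩, fun d => ⟨d.toProd, d.adj⟩, fun p => rfl, fun d => rfl⟩
  have hE1 : Fintype.card B ≤ G.edgeFinset.card + 1 := by
    have h1 := hconnG.card_vert_le_card_edgeSet_add_one
    rwa [Nat.card_eq_fintype_card, Nat.card_eq_fintype_card, SimpleGraph.card_edgeSet] at h1
  have hE2 : G.edgeFinset.card < Fintype.card B := by
    have hpos := q_pos cs hconn (fun _ => 1) (fun h => one_ne_zero (congrFun h b))
    have h1 : q M (fun _ => (1 : ℝ)) = ∑ p : B × B, K M p.1 p.2 := by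
      rw [Fintype.sum_prod_type]
      simp only [q, fn_apply, one_mul, mul_one]
    have h2 : ∀ p : B × B, K M p.1 p.2 ≤ (if p.1 = p.2 then 1 else 0) - (1 / 2) * (if G.Adj p.1 p.2 then 1 else 0) := by
      rintro ⟨x, y⟩
      by_cases hxy : x = y
      · subst hxy
        simp [K_self]
      · have h3 := two_le cs hxy
        by_cases h4 : M x y = 2
        · have h5 : ¬ G.Adj x y := fun h => h.1 h4
          simp only [hxy, h5, if_false]
          have := K_nonpos M h3
          linarith
        · have h5 : G.Adj x y := ⟨h4, hxy⟩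
          simp only [hxy, h5, if_false, if_true]
          have := K_le_three M (a := x) (b := y) (by omega)
          linarith
    have h3 := Finset.sum_le_sum (s := (univ : Finset (B × B))) fun p _ => h2 p
    rw [← h1, Finset.sum_sub_distrib, ← Finset.mul_sum, Finset.sum_boole, Finset.sum_boole] at h3
    have h4 : (univ.filter fun p : B × B => p.1 = p.2).card = Fintype.card B := by
      rw [← Fintype.card_subtype]
      exact Fintype.card_congr ⟨fun p => p.1.1, fun x => ⟨(x, x), rfl⟩, fun p => by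
        rcases p with ⟨⟨x, y⟩, h⟩
        simp only at h
        subst h
        rfl, fun x => rfl⟩
    have h5 : (univ.filter fun p : B × B => G.Adj p.1 p.2).card = 2 * G.edgeFinset.card := by
      rw [← Fintype.card_subtype, ← hD1]
    rw [h4, h5] at h3
    push_cast at h3
    have h6 : (G.edgeFinset.card : ℝ) < Fintype.card B := by linarith
    exact_mod_cast h6
  have hE : G.edgeFinset.card + 1 = Fintype.card B := by omega
  -- `τ` on the darts
  let ττ : Equiv.Perm (B × B) := Equiv.prodCongr τ τ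
  have hadj : ∀ p : B × B, G.Adj p.1 p.2 ↔ G.Adj (ττ p).1 (ττ p).2 := by
    rintro ⟨x, y⟩
    show (M x y ≠ 2 ∧ x ≠ y) ↔ (M (τ x) (τ y) ≠ 2 ∧ τ x ≠ τ y)
    rw [hτ, τ.injective.ne_iff]
  let σ : Equiv.Perm D := ττ.subtypePerm fun p => (hadj p).symm
  have hσ : σ ^ r ^ 1 = 1 := by
    rw [pow_one]
    ext p : 2
    have h1 : ∀ n : ℕ, (((σ ^ n) p : D) : B × B) = ((τ ^ n) p.1.1, (τ ^ n) p.1.2) := by
      intro n
      induction n with
      | zero => rfl
      | succ n ih =>
        rw [pow_succ', pow_succ', Equiv.Perm.mul_apply]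
        show (ττ ((σ ^ n) p : D).1) = _
        rw [ih]
        rfl
    rw [h1, hk]
    rfl
  have hrD : ¬ r ∣ Fintype.card D := by
    rw [hD1, hr.dvd_mul]
    rintro (h | h)
    · exact hodd h
    · have h1 : r ∣ 1 := by
        have h2 : (1 : ℕ) = Fintype.card B - G.edgeFinset.card := by omega
        rw [h2]
        exact Nat.dvd_sub hrn h
      exact hr.one_lt.ne' (Nat.dvd_one.1 h1)
  obtain ⟨p, hp⟩ := Equiv.Perm.exists_fixed_point_of_prime (n := 1) hrD (σ := σ) hσ
  refine hfix ⟨p.1.1, ?_⟩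
  exact congrArg (fun p : D => p.1.1) hp

end

/-- **Diagram automorphisms of `r`-power order, `r` not dividing `|W|`, are trivial.** -/
theorem diag {B : Type*} [Fintype B] [DecidableEq B] {M : CoxeterMatrix B} {W : Type*} [Group W] [Finite W]
    (cs : CoxeterSystem M W)
    (hconn : ∀ J : Set B, J.Nonempty → Jᶜ.Nonempty → ∃ a ∈ J, ∃ b ∈ Jᶜ, M a b ≠ 2)
    (τ : Equiv.Perm B) (hτ : ∀ i j, M (τ i) (τ j) = M i j) {r : ℕ} (hr : r.Prime) (hrW : ¬ r ∣ Nat.card W)
    {k : ℕ} (hk : τ ^ r ^ k = 1) : τ = 1 := by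
  induction k with
  | zero => rwa [pow_zero, pow_one] at hk
  | succ k ih =>
    refine ih ?_
    refine diag_prime cs hconn (τ ^ r ^ k) ?_ hr hrW (by rw [← pow_mul, ← pow_succ]; exact hk)
    intro i j
    have h : ∀ n : ℕ, M ((τ ^ n) i) ((τ ^ n) j) = M i j := by
      intro n
      induction n with
      | zero => rfl
      | succ n ih => rw [pow_succ', Equiv.Perm.mul_apply, Equiv.Perm.mul_apply, hτ, ih]
    exact h _

end Cfsg.Agent.H967.DiagAut
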