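import Mathlib
import Cfsg.Agent.H687.Theta
import Cfsg.Agent.Characters.Counting
import Cfsg.Agent.S0886
import Cfsg.Prelude.Def_KGroupFacts

/-!
# S4834: constituents of an induced linear character fixed by an automorphism (helper967)

* `eq_of_fix` : if the automorphism `τ` preserves `P` and `σ` and fixes a set of representatives of the double cosets
  `P y P`, then it fixes the constituents of `Ind_P^S σ`;
* `extends_of_cyclic_out` : characters extend to `MulAut S` if `Out S` is cyclic;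
* `good_of_fix` : the version of `theta_good` without the bound for the norm of `Ind σ`.
-/

set_option autoImplicit false
set_option linter.unusedSectionVars false

namespace Cfsg.Agent.H967.ThInv

open Cfsg Cfsg.Agent.Characters.Core Cfsg.Agent.Characters.Counting Cfsg.Agent.H687
open scoped ComplexConjugate

universe u v

section

variable {S : Type u} [Group S] [Fintype S]

/-- convolution of different irreducible characters -/
theorem conv_eq_zero {ψ χ : S → ℂ} (hψ : IsIrrCharacter S ψ) (hχ : IsIrrCharacter S χ) (hne : ψ ≠ χ) (x : S) :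
    ∑ g : S, ψ g * χ (g⁻¹ * x) = 0 := by
  have hψcl := isIrr_isClassFunction hψ
  obtain ⟨n, ρ, hρ, rfl⟩ := hχ
  obtain ⟨c, hc⟩ := exists_sum_smul_rho_inv_eq_smul_one hψcl ρ hρ
  have hval : ∀ x : S, ∑ g : S, ψ g * ρ.character (g⁻¹ * x) = c * ρ.character x := by
    intro x
    have h1 := congrArg (fun T : Module.End ℂ (Fin n → ℂ) => LinearMap.trace ℂ _ (T * ρ x)) hc
    simp only [Finset.sum_mul, smul_mul_assoc, map_sum, map_smul, one_mul, ← map_mul ρ] at h1
    exact h1
  have h2 := hval 1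
  have h3 : ∑ g : S, ψ g * ρ.character (g⁻¹ * 1) = (Nat.card S : ℂ) * classInner ψ ρ.character := by
    rw [classInner_def, ← mul_assoc, mul_inv_cancel₀ card_ne_zero_complex, one_mul]
    refine Finset.sum_congr rfl fun g _ => ?_
    rw [mul_one, isCharacter_apply_inv (isIrr_isCharacter (isIrrCharacter_of_rep ρ hρ))]
  rw [h3, classInner_irr_ne hψ (isIrrCharacter_of_rep ρ hρ) hne, mul_zero] at h2
  have h4 : c = 0 := (mul_eq_zero.1 h2.symm).resolve_right (isIrr_apply_one_ne_zero (isIrrCharacter_of_rep ρ hρ))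
  rw [hval, h4, zero_mul]

variable (P : Subgroup S) [Fintype P] (σ : P →* ℂˣ)

/-- the sum `∑ σ(t) χ(t g)` -/
noncomputable def sP (χ : S → ℂ) (g : S) : ℂ := ∑ t : P, (σ t : ℂ) * χ (t * g)

theorem sP_left (χ : S → ℂ) (b : P) (g : S) : sP P σ χ (b * g) = (σ b : ℂ)⁻¹ * sP P σ χ g := by
  unfold sP
  rw [Finset.mul_sum]
  refine Fintype.sum_equiv (Equiv.mulRight b) _ _ fun t => ?_
  rw [Equiv.coe_mulRight, map_mul, Units.val_mul, Subgroup.coe_mul, mul_assoc (t : S)]
  have : (σ b : ℂ) ≠ 0 := Units.ne_zero _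
  field_simp

theorem sP_right {χ : S → ℂ} (hχ : IsClassFunction S χ) (b : P) (g : S) :
    sP P σ χ (g * b) = (σ b : ℂ)⁻¹ * sP P σ χ g := by
  rw [← sP_left]
  unfold sP
  refine Fintype.sum_equiv ((Equiv.mulLeft b).trans (Equiv.mulRight b⁻¹)) _ _ fun t => ?_
  have e1 : ((Equiv.mulLeft b).trans (Equiv.mulRight b⁻¹)) t = b * t * b⁻¹ := rfl
  rw [e1]
  have e2 : σ (b * t * b⁻¹) = σ t := by rw [map_mul, map_mul, map_inv, mul_comm, inv_mul_cancel_left]
  rw [e2]
  congr 1
  have e3 : ((b * t * b⁻¹ : P) : S) * (b * g) = b * (t * (g * b)) * (b : S)⁻¹ := by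
    rw [Subgroup.coe_mul, Subgroup.coe_mul, Subgroup.coe_inv]; group
  rw [e3]
  exact (hχ _ _).symm

theorem conj_sP {χ : S → ℂ} (hχ : IsCharacter S χ) (g : S) :
    conj (sP P σ χ g) = ∑ u : P, (σ u : ℂ) * χ (g⁻¹ * u) := by
  unfold sP
  rw [map_sum]
  refine Fintype.sum_equiv (Equiv.inv P) _ _ fun t => ?_
  rw [map_mul, ← isCharacter_apply_inv hχ, ← isCharacter_apply_inv (Characters.Linear.isCharacter_hom σ), Equiv.inv_apply,
    mul_inv_rev, Subgroup.coe_inv]

/-- **An automorphism fixing representatives of the double cosets fixes the constituents.** -/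
theorem eq_of_fix {χ : S → ℂ} (hχ : IsIrrCharacter S χ) (hne : sP P σ χ 1 ≠ 0) (τ : MulAut S)
    (hP : ∀ t, t ∈ P → τ t ∈ P) (hσ : ∀ (t : S) (ht : t ∈ P), σ ⟨τ t, hP t ht⟩ = σ ⟨t, ht⟩) (N : Set S)
    (hN : ∀ y : S, ∃ a ∈ P, ∃ b ∈ P, a * y * b ∈ N) (hfix : ∀ n ∈ N, τ n = n) (g : S) : χ (τ g) = χ g := by
  by_contra hcon
  have hcl := isIrr_isClassFunction hχ
  set ψ : S → ℂ := fun g => χ (τ g) with hψ
  have hψirr : IsIrrCharacter S ψ := isIrr_comp τ.toMonoidHom τ.surjective hχ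
  have hne' : ψ ≠ χ := fun h => hcon (congrFun h g)
  have hconv := conv_eq_zero hψirr hχ hne'
  -- the sums agree
  let e : P ≃ P := Equiv.ofBijective (fun t => ⟨τ t, hP t t.2⟩) (by
    rw [← Finite.injective_iff_bijective]
    intro a b hab
    exact Subtype.ext (τ.injective (congrArg Subtype.val hab)))
  have h1 : ∀ y, sP P σ ψ y = sP P σ χ (τ y) := by
    intro y
    unfold sP
    refine Fintype.sum_equiv e _ _ fun t => ?_
    have e1 : σ (e t) = σ t := hσ t t.2
    rw [e1]
    show _ * χ (τ (t * y)) = _ * χ (τ t * τ y)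
    rw [map_mul]
  have h2 : ∀ y, sP P σ χ (τ y) = sP P σ χ y := by
    intro y
    obtain ⟨a, ha, b, hb, hn⟩ := hN y
    have e1 : y = (⟨a, ha⟩⁻¹ : P) * (a * y * b) * (⟨b, hb⟩⁻¹ : P) := by
      rw [Subgroup.coe_inv, Subgroup.coe_inv]; group
    have e2 : τ y = (⟨τ a, hP a ha⟩⁻¹ : P) * (a * y * b) * (⟨τ b, hP b hb⟩⁻¹ : P) := by
      conv_lhs => rw [show y = a⁻¹ * (a * y * b) * b⁻¹ by group]
      rw [map_mul, map_mul, hfix _ hn, Subgroup.coe_inv, Subgroup.coe_inv, map_inv, map_inv]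
    rw [e2]
    conv_rhs => rw [e1]
    rw [sP_right P σ hcl, sP_left, sP_right P σ hcl, sP_left, map_inv, map_inv, map_inv, map_inv, hσ a ha, hσ b hb]
  have h3 : ∑ y : S, sP P σ ψ y * conj (sP P σ χ y) = 0 := by
    have h4 : ∀ y : S, sP P σ ψ y * conj (sP P σ χ y) =
        ∑ t : P, ∑ u : P, (σ t : ℂ) * (σ u : ℂ) * (ψ (t * y) * χ (y⁻¹ * u)) := by
      intro y
      rw [conj_sP P σ (isIrr_isCharacter hχ), sP, Finset.sum_mul_sum]
      refine Finset.sum_congr rfl fun t _ => Finset.sum_congr rfl fun u _ => ?_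
      ring
    rw [Finset.sum_congr rfl fun y _ => h4 y, Finset.sum_comm]
    refine Finset.sum_eq_zero fun t _ => ?_
    rw [Finset.sum_comm]
    refine Finset.sum_eq_zero fun u _ => ?_
    rw [← Finset.mul_sum]
    have h5 : ∑ y : S, ψ (t * y) * χ (y⁻¹ * u) = ∑ y : S, ψ y * χ (y⁻¹ * (t * u)) := by
      refine Fintype.sum_equiv (Equiv.mulLeft (t : S)) _ _ fun y => ?_
      rw [Equiv.coe_mulLeft]
      congr 2
      group
    rw [h5, hconv, mul_zero]
  have h4 : ∑ y : S, ((Complex.normSq (sP P σ χ y) : ℝ) : ℂ) = 0 := by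
    rw [← h3]
    refine Finset.sum_congr rfl fun y _ => ?_
    rw [h1, h2, Complex.mul_conj]
  have h5 : ∑ y : S, Complex.normSq (sP P σ χ y) = 0 := by exact_mod_cast h4
  have h6 := (Finset.sum_eq_zero_iff_of_nonneg fun y _ => Complex.normSq_nonneg _).1 h5 1 (Finset.mem_univ _)
  exact hne (Complex.normSq_eq_zero.1 h6)

end

/-- Characters extend to `MulAut S` if `Out S` is cyclic. -/
theorem extends_of_cyclic_out {S : Type u} [Group S] [Finite S]
    (hinj : Function.Injective (MulAut.conj : S →* MulAut S)) (hcyc : IsCyclic (Cfsg.Out S))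
    {α : S → ℂ} (hα : IsIrrCharacter S α) (hinv : ∀ (a : MulAut S) (x : S), α (a x) = α x) :
    ∃ ψ : MulAut S → ℂ, IsIrrCharacter (MulAut S) ψ ∧ ∀ s, ψ (MulAut.conj s) = α s := by
  have hN : (Cfsg.Inn S).Normal := inferInstance
  have : Finite (MulAut S) := Finite.of_injective (fun σ => (σ : S → S)) DFunLike.coe_injective
  let e : S ≃* Cfsg.Inn S := MonoidHom.ofInjective hinj
  have he : ∀ s, ((e s : Cfsg.Inn S) : MulAut S) = MulAut.conj s := fun s => rfl
  obtain ⟨ψ, hψ, hψ2⟩ := S0886.result (Cfsg.Inn S) hcyc (α ∘ e.symm)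
    (Characters.Core.isIrr_comp e.symm.toMonoidHom e.symm.surjective hα) (by
      intro g n
      obtain ⟨s, rfl⟩ := e.surjective n
      have h1 : (⟨g * (e s : Cfsg.Inn S) * g⁻¹, hN.conj_mem _ (e s).2 g⟩ : Cfsg.Inn S) = e (g s) := by
        apply Subtype.ext
        show g * MulAut.conj s * g⁻¹ = MulAut.conj (g s)
        ext x
        simp [MulAut.conj_apply, MulAut.mul_apply]
      rw [h1, Function.comp_apply, Function.comp_apply, MulEquiv.symm_apply_apply, MulEquiv.symm_apply_apply, hinv])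
  refine ⟨ψ, hψ, fun s => ?_⟩
  have h2 := hψ2 (e s)
  rw [he, Function.comp_apply, MulEquiv.symm_apply_apply] at h2
  exact h2

section Main

open Cfsg.Agent.OddOrderCharacters.Clifford

variable {p : ℕ} [hpF : Fact p.Prime] {S : Type u} [Group S] [Finite S] {F : Type v} [Field F] [Finite F] [CharP F p]
  {z : F → S} (z_add : ∀ a b, z (a + b) = z a * z b) (z_inj : Function.Injective z)

include z_add z_inj in
/-- **The theorem for families with linear characters, norm of `Ind σ` arbitrary.** -/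
theorem good_of_fix (hp : 3 < p) [IsSimpleGroup S] (hna : ∃ a b : S, a * b ≠ b * a)
    (hcan : ∀ φ : MulAut S, ∃ s : S, ∀ a, ∃ b, s * φ (z a) * s⁻¹ = z b)
    (hidx : ∃ U : Sylow p S, ∀ u ∈ (U : Subgroup S), Nrm z u)
    (N : Set S) (hN : ∀ y : S, ∃ a b : S, Nrm z a ∧ Nrm z b ∧ a * y * b ∈ N)
    (x₀ : S) (h1 : ∃ i : ℤ, Odd i ∧ Wit z 1 i i)
    (h3 : ∀ n ∈ N, Nrm z n ∨ ∃ i j : ℤ, Wit z n i j ∧ ¬ ((p : ℤ) - 1 ∣ i - j))
    (x1 : Nrm z (x₀ * x₀)) (x2 : ∀ a, Nrm z (x₀ * z a * x₀⁻¹) → a = 0)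
    (x3 : ∀ a, a ≠ 0 → ∃ b, Nrm z (x₀⁻¹ * z b * x₀ * z a * x₀⁻¹))
    (hcyc : IsCyclic (Cfsg.Out S))
    (hfix : ∀ φ : MulAut S, ∃ s : S, (∀ a, ∃ b, s * φ (z a) * s⁻¹ = z b) ∧ ∀ n ∈ N, s * φ n * s⁻¹ = n) : Good p S := by
  classical
  have : Fintype F := Fintype.ofFinite F
  have : Fintype S := Fintype.ofFinite S
  have : Fintype (MulAut S) := Fintype.ofFinite _
  have h2F := ringChar_ne_two (F := F) hp
  obtain ⟨β, hβ, hβ1, Ψ, hΨ, hΨβ⟩ := delta_char z_add z_inj hp hcan N hN h3
  -- a non-square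
  obtain ⟨d, hd⟩ : ∃ d : Fˣ, ¬ IsSquare d := by
    obtain ⟨a, ha⟩ := FiniteField.exists_nonsquare h2F
    have ha0 : a ≠ 0 := by
      rintro rfl
      exact ha ⟨0, by simp⟩
    refine ⟨Units.mk0 a ha0, ?_⟩
    rintro ⟨c, hc⟩
    exact ha ⟨c, by simpa using congrArg Units.val hc⟩
  set P := NS z with hP
  have hNm : ∀ g, Nrm z g ↔ g ∈ P := fun g => (conj_mem_StA_iff z_inj).symm
  set σ := rS z (sgn z_inj) with hσ
  set Θ := indFun (StA z) (fun t => (sgn z_inj t : ℂ)) with hΘdef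
  set Θ' := indFun P (fun t => (σ t : ℂ)) with hΘ'def
  have hΘ : IsCharacter (MulAut S) Θ := S0148.result _ _ (Characters.Linear.isCharacter_hom _)
  have hΘ' : IsCharacter S Θ' := S0148.result _ _ (Characters.Linear.isCharacter_hom _)
  have hcomp : Θ ∘ (MulAut.conj : S →* MulAut S) = Θ' := by
    funext s
    exact ind_comp z_inj hcan _ s
  have hx₀ : x₀ ∉ P := by
    intro h
    have h4 : Nrm z (x₀ * z 1 * x₀⁻¹) := by
      rw [hNm]
      refine P.mul_mem (P.mul_mem h ?_) (P.inv_mem h)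
      rw [← hNm]
      intro a
      refine ⟨a, ?_⟩
      rw [← z_add, add_comm, z_add, mul_inv_cancel_right]
    exact one_ne_zero (x2 1 h4)
  obtain ⟨nA, nS, hnA, hnS, hle⟩ := inner_mono (MulAut.conj : S →* MulAut S) hΘ hΘ
  rw [hcomp] at hnS
  -- the norm over `MulAut S` is at least two
  have hA2 : 2 ≤ nA := by
    have hag := agree_sgn z_add z_inj x₀ x1 x2 x3
    have hx₀' : MulAut.conj x₀ ∉ StA z := hx₀
    have key := norm_ge (StA z) (sgn z_inj) (ι := Fin 2) ![1, MulAut.conj x₀] ?_ ?_ hnA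
    · simpa using key
    · intro i
      fin_cases i
      · exact agree_of_mem _ _ (StA z).one_mem
      · exact hag
    · intro i j hij
      fin_cases i <;> fin_cases j
      · exact absurd rfl hij
      · rintro ⟨a, ha, b, hb, h⟩
        apply hx₀'
        have h' : MulAut.conj x₀ = a * 1 * b := h
        rw [h', mul_one]
        exact (StA z).mul_mem ha hb
      · rintro ⟨a, ha, b, hb, h⟩
        apply hx₀'
        have h' : (1 : MulAut S) = a * MulAut.conj x₀ * b := h
        have h4 : MulAut.conj x₀ = a⁻¹ * b⁻¹ := by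
          have h5 : MulAut.conj x₀ = a⁻¹ * (a * MulAut.conj x₀ * b) * b⁻¹ := by group
          rw [h5, ← h', mul_one]
        rw [h4]
        exact (StA z).mul_mem ((StA z).inv_mem ha) ((StA z).inv_mem hb)
      · exact absurd rfl hij
  have hS2 : 2 ≤ nS := hA2.trans hle
  -- a constituent of degree prime to `p`
  have hdeg : Θ' 1 = (P.index : ℂ) := by
    rw [hΘ'def, indFun_one, map_one]; simp
  have hpP : ¬ p ∣ P.index := not_dvd_index z_inj hidx
  obtain ⟨α, hα, hne, c, hc, hpc, hcle⟩ := exists_irr_constituent hΘ' hdeg hpP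
  have hclt : c ≠ P.index := by
    intro h
    have h4 := isCharacter_sub_irr hΘ' hα hne
    have h5 : (Θ' - α) 1 = 0 := by rw [Pi.sub_apply, hdeg, hc, h, sub_self]
    have h6 := sub_eq_zero.1 (eq_zero_of_one h4 h5)
    rw [h6, classInner_irr_self hα] at hnS
    have h7 : (nS : ℂ) = 1 := hnS.symm
    have h8 : nS = 1 := by exact_mod_cast h7
    omega
  have hc1 : c ≠ 1 := by
    intro h
    rw [h, Nat.cast_one] at hc
    have h4 := irr_eq_one hna hα hc
    apply hne
    rw [h4, classInner_indFun P _ _ (fun _ _ => rfl)]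
    have h5 : σ ≠ 1 := by
      intro h5
      obtain ⟨i, hi, hw⟩ := h1
      obtain ⟨t, ht, -⟩ := hw d
      have h6 : ((σ ⟨t, ht.mem z_inj⟩ : ℂˣ) : ℂ) = if IsSquare (d ^ i) then 1 else -1 := sgn_sc h2F z_inj ht
      rw [h5, if_neg (fun h => Int.not_even_iff_odd.2 hi ((isSquare_zpow_iff hd i).1 h))] at h6
      norm_num at h6
    have h7 : ∑ t : P, ((σ t : ℂˣ) : ℂ) = 0 := by
      have h8 : (Units.coeHom ℂ).comp σ ≠ 1 := by
        intro h9
        apply h5
        ext t
        exact congrArg (fun f : P →* ℂ => f t) h9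
      exact sum_hom_units_eq_zero _ h8
    unfold classInner
    simp only [map_one, mul_one]
    rw [h7, mul_zero]
  have hidx1 : P.index ≠ 1 := by
    rw [Ne, Subgroup.index_eq_one]
    intro h
    exact hx₀ (by rw [h]; trivial)
  -- invariance
  have hαs : sP P σ α 1 ≠ 0 := by
    intro h0
    apply hne
    rw [classInner_indFun P _ _ (isIrr_isClassFunction hα)]
    have hsq : ∀ t : P, (σ t)⁻¹ = σ t := by
      intro t
      rw [inv_eq_iff_mul_eq_one]
      show sgn z_inj ⟨MulAut.conj (t : S), t.2⟩ * sgn z_inj ⟨MulAut.conj (t : S), t.2⟩ = 1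
      unfold sgn
      rw [MonoidHom.comp_apply, ← map_mul, MonoidHom.comp_apply, Int.units_mul_self, map_one]
    have h4 : ∑ t : P, (σ t : ℂ) * conj (α t) = sP P σ α 1 := by
      unfold sP
      refine Fintype.sum_equiv (Equiv.inv P) _ _ fun t => ?_
      rw [Equiv.inv_apply, map_inv, hsq, mul_one, Subgroup.coe_inv, isCharacter_apply_inv (isIrr_isCharacter hα)]
    unfold classInner
    rw [h4, h0, mul_zero]
  have hinv : ∀ (φ : MulAut S) (x : S), α (φ x) = α x := by
    intro φ x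
    obtain ⟨s, hs, hsN⟩ := hfix φ
    set τ : MulAut S := MulAut.conj s * φ with hτ
    have hτS : τ ∈ StA z := (mem_StA_iff z_inj).2 hs
    have h4 : ∀ t, MulAut.conj (τ t) = τ * MulAut.conj t * τ⁻¹ := by
      intro t
      ext x
      simp [MulAut.conj_apply]
    have h5 := eq_of_fix P σ hα hαs τ
      (fun t ht => by
        show MulAut.conj (τ t) ∈ StA z
        rw [h4]
        exact (StA z).mul_mem ((StA z).mul_mem hτS ht) ((StA z).inv_mem hτS))
      (fun t ht => by
        show sgn z_inj ⟨MulAut.conj (τ t), _⟩ = sgn z_inj ⟨MulAut.conj t, ht⟩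
        have h6 : (⟨MulAut.conj (τ t), by
            rw [h4]
            exact (StA z).mul_mem ((StA z).mul_mem hτS ht) ((StA z).inv_mem hτS)⟩ : StA z) =
            ⟨τ, hτS⟩ * ⟨MulAut.conj t, ht⟩ * ⟨τ, hτS⟩⁻¹ := Subtype.ext (h4 t)
        rw [h6, map_mul, map_mul, map_inv, mul_comm, inv_mul_cancel_left])
      N (fun y => by
        obtain ⟨a, b, ha, hb, hn⟩ := hN y
        exact ⟨a, (hNm a).1 ha, b, (hNm b).1 hb, hn⟩) hsN x
    rw [← h5]
    have h6 : τ x = s * φ x * s⁻¹ := rfl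
    rw [h6]
    exact (isIrr_isClassFunction hα _ _).symm
  have hinj : Function.Injective (MulAut.conj : S →* MulAut S) := by
    have hZ : Subgroup.center S = ⊥ := by
      rcases IsSimpleGroup.eq_bot_or_eq_top_of_normal (Subgroup.center S) inferInstance with h | h
      · exact h
      · obtain ⟨a, b, hab⟩ := hna
        exact absurd (Subgroup.mem_center_iff.1 (h ▸ Subgroup.mem_top b : b ∈ Subgroup.center S) a) hab
    rw [injective_iff_map_eq_one]
    intro x hx
    have h4 : x ∈ Subgroup.center S := by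
      rw [Subgroup.mem_center_iff]
      intro y
      have h5 := DFunLike.congr_fun hx y
      rw [MulAut.conj_apply, MulAut.one_apply, mul_inv_eq_iff_eq_mul] at h5
      exact h5.symm
    rwa [hZ, Subgroup.mem_bot] at h4
  refine good_of hα hβ hc hβ1 hc1 hidx1 hpc hpP (extends_of_cyclic_out hinj hcyc hα hinv) ?_ ?_
  · intro h
    have h4 : 0 < c := by
      rcases Nat.eq_zero_or_pos c with h5 | h5
      · exfalso; rw [h5] at hpc; exact hpc (dvd_zero _)
      · exact h5
    have h6 := Nat.le_of_dvd h4 h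
    omega
  · rintro φ - s
    rw [← hΨβ, ← hΨβ]
    have h4 : MulAut.conj (φ s) = φ * MulAut.conj s * φ⁻¹ := by
      ext x
      simp [MulAut.conj_apply]
    rw [h4]
    exact isIrr_isClassFunction hΨ _ _

end Main

end Cfsg.Agent.H967.ThInv
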